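import Cfsg.Agent.TwoFusion.Product.Commute
import Cfsg.Agent.InvolCalc.Classes

/-!
Product fusion: the normal closures of two commuting strongly closed 2-subgroups which meet
trivially commute modulo the odd core.
-/

set_option autoImplicit false
set_option linter.style.haveILetI false
set_option linter.unusedSectionVars false

namespace Cfsg.Lib.ProdFusion

open Subgroup
open Cfsg.Lib.Components
open Cfsg.Lib.CoreSep
open scoped commutatorElement

universe u

variable {G : Type u} [Group G] [Finite G]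

/-- The statement proved by induction. -/
def Goal (G : Type u) [Group G] : Prop :=
  ∀ (S : Sylow 2 G) (S₁ S₂ : Subgroup G), Cfsg.IsStronglyClosed S₁ (S : Subgroup G) →
    Cfsg.IsStronglyClosed S₂ (S : Subgroup G) → (∀ a ∈ S₁, ∀ b ∈ S₂, a * b = b * a) →
    S₁ ⊓ S₂ = ⊥ →
    ⁅normalClosure (S₁ : Set G), normalClosure (S₂ : Set G)⁆ ≤ pPrimeCore 2 G

theorem le_normalClosure_of_isIn {A : Subgroup G} {x : G} (h : IsIn A x) :
    x ∈ normalClosure (A : Set G) := by
  obtain ⟨g, s, hs, rfl⟩ := h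
  exact normalClosure_normal.conj_mem s (subset_normalClosure hs) g

theorem normalClosure_le_iff_isIn {A K : Subgroup G} (h : ∀ x, IsIn A x → x ∈ K) :
    normalClosure (A : Set G) ≤ K := by
  rw [normalClosure, closure_le]
  intro x hx
  obtain ⟨s, hs, hc⟩ := Group.mem_conjugatesOfSet_iff.mp hx
  obtain ⟨g, rfl⟩ := isConj_iff.mp hc
  exact h _ ⟨g, s, hs, rfl⟩

/-- the separation of proper subgroups, from the induction hypothesis -/
theorem separated_of_goal (S : Sylow 2 G) {S₁ S₂ : Subgroup G}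
    (h₁ : Cfsg.IsStronglyClosed S₁ (S : Subgroup G)) (h₂ : Cfsg.IsStronglyClosed S₂ (S : Subgroup G))
    (hc : ∀ a ∈ S₁, ∀ b ∈ S₂, a * b = b * a) (hd : S₁ ⊓ S₂ = ⊥) {H : Subgroup G}
    (hH : Goal ↥H) : Separated S₁ S₂ H := by
  haveI : Fact (Nat.Prime 2) := ⟨Nat.prime_two⟩
  obtain ⟨T⟩ := (inferInstance : Nonempty (Sylow 2 H))
  obtain ⟨g, hg⟩ := Cfsg.Lib.InvolCalc.exists_conj_le S (T.isPGroup'.map H.subtype)
  let F : Subgroup G → Subgroup H := fun A =>
    (A.map (MulAut.conj g).toMonoidHom).subgroupOf H ⊓ (T : Subgroup H)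
  have hmem : ∀ {A : Subgroup G}, Cfsg.IsStronglyClosed A (S : Subgroup G) → ∀ x : H,
      IsIn A (x : G) → x ∈ (T : Subgroup H) → x ∈ F A := by
    intro A hA x hx hxT
    refine ⟨?_, hxT⟩
    obtain ⟨k, s, hs, hks⟩ := hx
    have h := hg _ (mem_map_of_mem H.subtype hxT)
    rw [Subgroup.subtype_apply, hks] at h
    refine ⟨g⁻¹ * k * s * (g⁻¹ * k)⁻¹, hA.2 s hs _ ?_, ?_⟩
    · rw [show g⁻¹ * k * s * (g⁻¹ * k)⁻¹ = g⁻¹ * (k * s * k⁻¹) * g by group]; exact h
    · show g * (g⁻¹ * k * s * (g⁻¹ * k)⁻¹) * g⁻¹ = (x : G)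
      rw [hks]; group
  have hin : ∀ {A : Subgroup G} (x : H), x ∈ F A → IsIn A (x : G) := by
    rintro A x ⟨⟨s, hs, hsx⟩, -⟩
    exact ⟨g, s, hs, hsx.symm⟩
  have hsc : ∀ {A : Subgroup G}, Cfsg.IsStronglyClosed A (S : Subgroup G) →
      Cfsg.IsStronglyClosed (F A) (T : Subgroup H) := fun hA =>
    ⟨inf_le_right, fun x hx h hh => hmem hA _ (by
      push_cast; exact isIn_conj (hin x hx) _) hh⟩
  have hcl : ∀ {A : Subgroup G}, Cfsg.IsStronglyClosed A (S : Subgroup G) →
      clos A H ≤ (normalClosure (F A : Set H)).map H.subtype := by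
    intro A hA
    refine (closure_le _).mpr ?_
    rintro x ⟨hxH, hx⟩
    obtain ⟨k, s, hs, hks⟩ := hx
    have hp : IsPGroup 2 (zpowers (⟨x, hxH⟩ : H)) := by
      have hs2 : IsPGroup 2 (zpowers s) := S.isPGroup'.to_le (zpowers_le.mpr (hA.1 hs))
      obtain ⟨i, hi⟩ := hs2 ⟨s, mem_zpowers s⟩
      have hsi : s ^ 2 ^ i = 1 := congrArg Subtype.val hi
      intro y
      obtain ⟨j, hj⟩ := mem_zpowers_iff.mp y.2
      refine ⟨i, Subtype.ext (Subtype.ext ?_)⟩
      have hxi : x ^ 2 ^ i = 1 := by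
        rw [hks, conj_pow, hsi,
          mul_one, mul_inv_cancel]
      push_cast
      rw [show ((y : H) : G) = x ^ j by rw [← hj]; rfl, ← zpow_natCast, ← zpow_mul, mul_comm,
        zpow_mul, zpow_natCast, hxi, one_zpow]
    obtain ⟨R, hR⟩ := hp.exists_le_sylow
    obtain ⟨h, hh⟩ := MulAction.exists_smul_eq H R T
    have h1 : h * ⟨x, hxH⟩ * h⁻¹ ∈ (T : Subgroup H) := by
      rw [← hh, Sylow.coe_subgroup_smul]
      exact Subgroup.smul_mem_pointwise_smul _ (MulAut.conj h) _ (hR (mem_zpowers _))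
    refine ⟨⟨x, hxH⟩, ?_, rfl⟩
    have h2 := normalClosure_normal.conj_mem _
      (subset_normalClosure (hmem hA _ (by push_cast; exact isIn_conj ⟨k, s, hs, hks⟩ _) h1)) h⁻¹
    simpa [mul_assoc] using h2
  have hres := hH T (F S₁) (F S₂) (hsc h₁) (hsc h₂) (fun x hx y hy => Subtype.ext ?_) ?_
  · refine (Subgroup.commutator_mono (hcl h₁) (hcl h₂)).trans ?_
    rw [← map_commutator]
    exact Subgroup.map_mono hres
  · obtain ⟨⟨s, hs, hsx⟩, -⟩ := hx
    obtain ⟨⟨t, ht, htx⟩, -⟩ := hy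
    show (x : G) * y = y * x
    rw [Subgroup.subtype_apply] at hsx htx
    rw [← hsx, ← htx, ← map_mul, ← map_mul, hc s hs t ht]
  · refine (eq_bot_iff_forall _).mpr fun x hx => Subtype.ext ?_
    obtain ⟨⟨s, hs, hsx⟩, -⟩ := hx.1
    obtain ⟨⟨t, ht, htx⟩, -⟩ := hx.2
    have : s ∈ S₁ ⊓ S₂ := ⟨hs, (MulAut.conj g).injective (htx.trans hsx.symm) ▸ ht⟩
    rw [hd, mem_bot] at this
    rw [Subgroup.subtype_apply] at hsx
    rw [← hsx, this, map_one]; rfl

/-- the induction hypothesis for a quotient, transported to `G` -/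
theorem le_comap_of_goal (S : Sylow 2 G) {S₁ S₂ : Subgroup G}
    (h₁ : Cfsg.IsStronglyClosed S₁ (S : Subgroup G)) (h₂ : Cfsg.IsStronglyClosed S₂ (S : Subgroup G))
    (hc : ∀ a ∈ S₁, ∀ b ∈ S₂, a * b = b * a) (N : Subgroup G) [N.Normal]
    (hd : ∀ a ∈ S₁, ∀ b ∈ S₂, a⁻¹ * b ∈ N → a ∈ N) (hN : Goal (G ⧸ N)) :
    ⁅normalClosure (S₁ : Set G), normalClosure (S₂ : Set G)⁆ ≤
      (pPrimeCore 2 (G ⧸ N)).comap (QuotientGroup.mk' N) := by
  haveI : Fact (Nat.Prime 2) := ⟨Nat.prime_two⟩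
  set π := QuotientGroup.mk' N
  have hs := QuotientGroup.mk'_surjective N
  have h := hN (S.mapSurjective hs) (S₁.map π) (S₂.map π)
    (Cfsg.Lib.InvolCalc.stronglyClosed_quotient S h₁ N)
    (Cfsg.Lib.InvolCalc.stronglyClosed_quotient S h₂ N)
    (by
      rintro _ ⟨a, ha, rfl⟩ _ ⟨b, hb, rfl⟩
      rw [← map_mul, hc a ha b hb, map_mul]) (by
      refine (eq_bot_iff_forall _).mpr ?_
      rintro x ⟨⟨a, ha, rfl⟩, ⟨b, hb, hba⟩⟩
      refine (QuotientGroup.eq_one_iff a).mpr (hd a ha b hb ?_)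
      exact QuotientGroup.eq.mp hba.symm)
  rw [← map_le_iff_le_comap, map_commutator, Subgroup.map_normalClosure _ π hs,
    Subgroup.map_normalClosure _ π hs]
  exact h

/-- elements of a normal subgroup are moved inside it into a given strongly closed part -/
theorem exists_conj_mem_of_normal (S : Sylow 2 G) {A N : Subgroup G}
    (hA : Cfsg.IsStronglyClosed A (S : Subgroup G)) [N.Normal] {y : G} (hy : IsIn A y) (hyN : y ∈ N) :
    ∃ n ∈ N, n * y * n⁻¹ ∈ A := by
  haveI : Fact (Nat.Prime 2) := ⟨Nat.prime_two⟩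
  obtain ⟨g, s, hs, rfl⟩ := hy
  have hp : IsPGroup 2 (zpowers (g * s * g⁻¹)) := by
    have h2 : (zpowers s).map (MulAut.conj g).toMonoidHom = zpowers (g * s * g⁻¹) := by
      rw [MonoidHom.map_zpowers]; rfl
    rw [← h2]
    exact (S.isPGroup'.to_le (zpowers_le.mpr (hA.1 hs))).map _
  obtain ⟨h, hh, hhS⟩ := Cfsg.Lib.ZStarApps.exists_conj_mem_sylow S
    (le_sup_right : (S : Subgroup G) ≤ N ⊔ S) hp (zpowers_le.mpr (mem_sup_left hyN))
  have hh' : h ∈ ((N ⊔ S : Subgroup G) : Set G) := hh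
  rw [sup_comm, Subgroup.mul_normal] at hh'
  obtain ⟨t, ht, n, hn, rfl⟩ := hh'
  refine ⟨n, hn, ?_⟩
  have h3 := hhS _ (mem_zpowers (g * s * g⁻¹))
  simp only [] at h3
  have h4 : n * (g * s * g⁻¹) * n⁻¹ = t⁻¹ * (t * n * (g * s * g⁻¹) * (t * n)⁻¹) * t := by group
  have h5 : n * g * s * (n * g)⁻¹ ∈ (S : Subgroup G) := by
    rw [show n * g * s * (n * g)⁻¹ = n * (g * s * g⁻¹) * n⁻¹ by group, h4]
    exact mul_mem (mul_mem (inv_mem ht) h3) ht
  rw [show n * (g * s * g⁻¹) * n⁻¹ = n * g * s * (n * g)⁻¹ by group]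
  exact hA.2 s hs _ h5

/-- a normal 2-subgroup inside one of the subgroups -/
theorem of_normal_le (hO : pPrimeCore 2 G = ⊥) (S : Sylow 2 G) {S₁ S₂ : Subgroup G}
    (h₁ : Cfsg.IsStronglyClosed S₁ (S : Subgroup G)) (h₂ : Cfsg.IsStronglyClosed S₂ (S : Subgroup G))
    (hc : ∀ a ∈ S₁, ∀ b ∈ S₂, a * b = b * a) (hd : S₁ ⊓ S₂ = ⊥) (V : Subgroup G) [hV : V.Normal]
    (hVS : V ≤ S₁) (hN : Goal (G ⧸ V)) :
    ⁅normalClosure (S₁ : Set G), normalClosure (S₂ : Set G)⁆ = ⊥ := by
  set N₁ := normalClosure (S₁ : Set G) with hN₁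
  set N₂ := normalClosure (S₂ : Set G) with hN₂
  set R := ⁅N₁, N₂⁆ with hR
  haveI : N₁.Normal := normalClosure_normal
  haveI : N₂.Normal := normalClosure_normal
  set C := centralizer (V : Set G) with hC
  haveI : C.Normal := normal_centralizer
  have hN₂C : N₂ ≤ C := normalClosure_le_normal fun b hb =>
    mem_centralizer_iff.mpr fun v hv => hc v (hVS hv) b hb
  have hRK := le_comap_of_goal S h₁ h₂ hc V (fun a ha b hb hab => by
    have hb1 : b ∈ S₁ := by
      have := S₁.mul_mem ha (hVS hab)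
      rwa [mul_inv_cancel_left] at this
    have : b ∈ S₁ ⊓ S₂ := ⟨hb1, hb⟩
    rw [hd, mem_bot] at this
    rw [this, mul_one] at hab
    exact inv_mem_iff.mp hab) hN
  set K := (pPrimeCore 2 (G ⧸ V)).comap (QuotientGroup.mk' V) ⊓ C with hK
  haveI : K.Normal := by rw [hK]; infer_instance
  have hRK' : R ≤ K := le_inf hRK ((commutator_le_right _ _).trans hN₂C)
  -- the elements of `K` lie in `V`
  have hKV : K ≤ V := by
    set Z := (V ⊓ K).subgroupOf K with hZ
    haveI : Z.Normal := inferInstance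
    have hVp : IsPGroup 2 V := S.isPGroup'.to_le (hVS.trans h₁.1)
    have hZp : IsPGroup 2 Z := (hVp.to_le inf_le_left).of_injective
      (subgroupOfEquivOfLe (inf_le_right : V ⊓ K ≤ K)).toMonoidHom
      (subgroupOfEquivOfLe (inf_le_right : V ⊓ K ≤ K)).injective
    have hidx : Z.index ∣ Nat.card (pPrimeCore 2 (G ⧸ V)) := by
      let φ : K →* pPrimeCore 2 (G ⧸ V) :=
        ((QuotientGroup.mk' V).comp K.subtype).codRestrict _ fun x => x.2.1
      have hker : φ.ker = Z := by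
        ext x
        constructor
        · intro hx
          exact ⟨(QuotientGroup.eq_one_iff _).mp (congrArg Subtype.val hx), x.2⟩
        · intro hx
          exact Subtype.ext ((QuotientGroup.eq_one_iff _).mpr hx.1)
      rw [← hker, Subgroup.index_ker]
      exact Subgroup.card_subgroup_dvd_card _
    obtain ⟨i, hi⟩ := IsPGroup.iff_card.mp hZp
    have hcop : (Nat.card Z).Coprime Z.index := by
      rw [hi]
      exact ((coprime_card_pPrimeCore (G := G ⧸ V) 2).symm.pow_left i).coprime_dvd_right hidx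
    obtain ⟨U, hU⟩ := Subgroup.exists_right_complement'_of_coprime (N := Z) hcop
    have hcen : ∀ z ∈ Z, ∀ k : K, z * k = k * z := fun z hz k =>
      Subtype.ext (mem_centralizer_iff.mp k.2.2 (z : G) hz.1)
    have hUodd : Odd (Nat.card U) := by
      rw [← hU.symm.index_eq_card]
      exact Nat.coprime_two_right.mp ((coprime_card_pPrimeCore (G := G ⧸ V) 2).coprime_dvd_left hidx)
    set D := U.map K.subtype
    have hD : D = ⊥ := by
      haveI : D.Normal := by
        refine ⟨fun d hd g => ?_⟩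
        obtain ⟨x, hx, rfl⟩ := hd
        have hy : g * (x : G) * g⁻¹ ∈ K := (inferInstance : K.Normal).conj_mem _ x.2 g
        obtain ⟨⟨z, u⟩, hzu⟩ := (hU.existsUnique ⟨_, hy⟩).exists
        have hz : z.1 = 1 := by
          have hpow : ((⟨_, hy⟩ : K)) ^ Nat.card U = 1 := by
            refine Subtype.ext ?_
            show (g * (x : G) * g⁻¹) ^ Nat.card U = 1
            rw [conj_pow, show (x : G) ^ Nat.card U = 1 from
              congrArg Subtype.val (congrArg Subtype.val (pow_card_eq_one' (x := (⟨x, hx⟩ : U))))]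
            group
          rw [← hzu, Commute.mul_pow (hcen _ z.2 _) _,
            show (u.1) ^ Nat.card U = 1 from congrArg Subtype.val (pow_card_eq_one' (x := u)),
            mul_one] at hpow
          have h1 : orderOf z.1 ∣ Nat.card U := orderOf_dvd_of_pow_eq_one hpow
          have h2 : orderOf z.1 ∣ 2 ^ i := hi ▸ Subgroup.orderOf_dvd_natCard _ z.2
          exact orderOf_eq_one_iff.mp (Nat.eq_one_of_dvd_coprimes
            ((Nat.coprime_two_right.mpr hUodd).pow_right i) h1 h2)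
        refine ⟨⟨_, hy⟩, ?_, rfl⟩
        rw [← hzu, hz, one_mul]
        exact u.2
      refine le_bot_iff.mp (hO ▸ le_pPrimeCore ?_)
      rw [Subgroup.card_map_of_injective K.subtype_injective]
      exact Nat.coprime_two_right.mpr hUodd
    intro k hk
    obtain ⟨⟨z, u⟩, hzu⟩ := (hU.existsUnique ⟨k, hk⟩).exists
    have hu : (u.1 : G) ∈ D := mem_map_of_mem _ u.2
    rw [hD, mem_bot] at hu
    have h1 : (z.1 : G) * (u.1 : G) = k := congrArg Subtype.val hzu
    rw [hu, mul_one] at h1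
    exact h1 ▸ z.2.1
  have hRV : R ≤ V := hRK'.trans hKV
  have hcenR : ∀ r ∈ R, ∀ n ∈ N₂, r * n = n * r := fun r hr n hn =>
    mem_centralizer_iff.mp (hN₂C hn) r (hRV hr)
  have hab : ∀ r ∈ R, ∀ r' ∈ R, r * r' = r' * r := fun r hr r' hr' =>
    hcenR r hr r' ((commutator_le_right _ _) hr')
  have hS₁ : ∀ s ∈ S₁, s ∈ centralizer (N₂ : Set G) := by
    intro s hs
    have hs1 : s ∈ N₁ := subset_normalClosure hs
    let L : Subgroup G :=
      { carrier := {n | n ∈ N₂ ∧ ⁅s, n⁆ = 1}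
        one_mem' := ⟨one_mem _, commutatorElement_one_right s⟩
        mul_mem' := fun {a b} ha hb => ⟨mul_mem ha.1 hb.1, by
          rw [Cfsg.Lib.CommFixedGen.comm_mul_right, ha.2, hb.2]; group⟩
        inv_mem' := fun {a} ha => ⟨inv_mem ha.1, by
          have : s * a = a * s := commutatorElement_eq_one_iff_mul_comm.mp ha.2
          exact commutatorElement_eq_one_iff_mul_comm.mpr (Commute.inv_right this).eq⟩ }
    have hle : N₂ ≤ L := normalClosure_le_iff_isIn fun y hy => by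
      have hyN : y ∈ N₂ := le_normalClosure_of_isIn hy
      refine ⟨hyN, ?_⟩
      obtain ⟨n, hn, hny⟩ := exists_conj_mem_of_normal S h₂ hy hyN
      have h0 : ⁅s, n * y * n⁻¹⁆ = 1 :=
        commutatorElement_eq_one_iff_mul_comm.mpr (hc s hs _ hny)
      have hm : ∀ m ∈ N₂, ⁅s, m⁆ ∈ R := fun m hm => commutator_mem_commutator hs1 hm
      have hhom : ∀ a ∈ N₂, ∀ b ∈ N₂, ⁅s, a * b⁆ = ⁅s, a⁆ * ⁅s, b⁆ := fun a ha b hb => by
        rw [Cfsg.Lib.CommFixedGen.comm_mul_right, ← hcenR _ (hm b hb) a ha, mul_inv_cancel_right]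
      have h1 : ⁅s, y⁆ = ⁅s, n⁻¹⁆ * ⁅s, n * y * n⁻¹⁆ * ⁅s, n⁆ := by
        rw [← hhom _ (inv_mem hn) _ (mul_mem (mul_mem hn hyN) (inv_mem hn)),
          ← hhom _ (mul_mem (inv_mem hn) (mul_mem (mul_mem hn hyN) (inv_mem hn))) _ hn]
        congr 1; group
      rw [h1, h0, mul_one, ← hhom _ (inv_mem hn) _ hn, inv_mul_cancel, commutatorElement_one_right]
    refine mem_centralizer_iff.mpr fun n hn => ?_
    exact (commutatorElement_eq_one_iff_mul_comm.mp (hle hn).2).symm
  haveI : (centralizer (N₂ : Set G)).Normal := normal_centralizer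
  exact commutator_eq_bot_iff_le_centralizer.mpr (normalClosure_le_normal hS₁)

/-- a normal subgroup centralized by a normal supplement of a Sylow 2-subgroup is a 2-group -/
theorem isPGroup_of_supplement (hO : pPrimeCore 2 G = ⊥) (S : Sylow 2 G) (A B : Subgroup G)
    [A.Normal] [B.Normal] (hAB : B ≤ centralizer (A : Set G)) (hsup : B ⊔ (S : Subgroup G) = ⊤) :
    IsPGroup 2 A := by
  intro a
  have ha : (a : G) ∈ ((B ⊔ S : Subgroup G) : Set G) := by rw [hsup]; exact mem_top _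
  rw [Subgroup.normal_mul] at ha
  obtain ⟨b, hb, s, hs, hbs⟩ := ha
  obtain ⟨i, hi⟩ := S.isPGroup' ⟨s, hs⟩
  set y := (a : G) ^ 2 ^ i with hy
  have hyB : y ∈ B := by
    refine (QuotientGroup.eq_one_iff y).mp ?_
    rw [hy, QuotientGroup.mk_pow, ← hbs]
    simp only [QuotientGroup.mk_mul, (QuotientGroup.eq_one_iff b).mpr hb, one_mul]
    rw [← QuotientGroup.mk_pow, show s ^ 2 ^ i = 1 from congrArg Subtype.val hi,
      QuotientGroup.mk_one]
  have hyA : y ∈ A := pow_mem a.2 _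
  -- `A ⊓ B` is an abelian normal subgroup, hence a 2-group
  obtain ⟨n, m, hm, hnm⟩ := Nat.exists_eq_two_pow_mul_odd (orderOf_pos y).ne'
  have hy1 : y ^ 2 ^ n = 1 := by
    refine eq_one_of_odd_normalized hO (N := A ⊓ B) (D := zpowers (y ^ 2 ^ n)) ?_
      (zpowers_le.mpr ⟨pow_mem hyA _, pow_mem hyB _⟩) ?_ (mem_zpowers _)
    · rw [Nat.card_zpowers, orderOf_pow' _ (by positivity), hnm, Nat.gcd_mul_right_left,
        Nat.mul_div_cancel_left _ (by positivity)]
      exact Nat.coprime_two_right.mpr hm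
    · refine le_trans ?_ (centralizer_le_normalizer _)
      intro z hz
      rw [Cfsg.Lib.Coprime.centralizer_zpowers, mem_centralizer_singleton_iff]
      exact (mem_centralizer_iff.mp (hAB hz.2) (y ^ 2 ^ n) (pow_mem hyA _)).symm
  refine ⟨i + n, Subtype.ext ?_⟩
  show (a : G) ^ 2 ^ (i + n) = 1
  rw [pow_add, pow_mul, ← hy, hy1]

namespace Ctx

variable {S : Sylow 2 G} {S₁ S₂ : Subgroup G} (c : Ctx S S₁ S₂)
include c

theorem commute_involutions {a h : G} (ha : a ∈ S₁) (ha2 : orderOf a = 2) (hh : IsIn S₂ h)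
    (hh2 : orderOf h = 2) : a * h = h * a := by
  haveI : Fact (Nat.Prime 2) := ⟨Nat.prime_two⟩
  obtain ⟨g, b, hb, rfl⟩ := hh
  have hb2 : orderOf b = 2 := by
    have := orderOf_conj_two g⁻¹ hh2
    rwa [show g⁻¹ * (g * b * g⁻¹) * g⁻¹⁻¹ = b by group] at this
  set I := {x : G | IsIn S₂ x ∧ orderOf x = 2} with hI
  set B := closure I with hB
  haveI hBn : B.Normal := by
    refine ⟨fun x hx k => ?_⟩
    have : B ≤ B.comap (MulAut.conj k).toMonoidHom := (closure_le _).mpr fun y hy =>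
      subset_closure ⟨isIn_conj hy.1 k, orderOf_conj_two k hy.2⟩
    exact this hx
  have hhB : g * b * g⁻¹ ∈ B := subset_closure ⟨⟨g, b, hb, rfl⟩, hh2⟩
  by_cases hH : B ⊔ (S : Subgroup G) = ⊤
  swap
  · refine commutatorElement_eq_one_iff_mul_comm.mp
      (eq_one_of_odd_normalized c.core (N := B) (D := coreOf (B ⊔ (S : Subgroup G)) ⊓ B) ?_
        inf_le_right ?_ ⟨(c.sep _ hH).comm_mem (mem_sup_right (c.sc₁.1 ha)) (isIn_self ha)
          (mem_sup_left hhB) ⟨g, b, hb, rfl⟩, ?_⟩)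
    · refine (coprime_card_pPrimeCore (G := ↥(B ⊔ (S : Subgroup G))) 2).coprime_dvd_left ?_
      exact (Subgroup.card_dvd_of_le inf_le_left).trans (card_map_dvd _ _)
    · refine Cfsg.Lib.Coprime.le_normalizer_inf ((le_sup_left : B ≤ B ⊔ (S : Subgroup G)).trans ?_) le_normalizer
      conv_lhs => rw [← range_subtype (B ⊔ (S : Subgroup G)), MonoidHom.range_eq_map]
      exact le_trans (Subgroup.map_mono (normalizer_eq_top _).ge) (le_normalizer_map _)
    · rw [commutatorElement_def]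
      exact Subgroup.mul_mem _ (hBn.conj_mem _ hhB a) (Subgroup.inv_mem _ hhB)
  obtain ⟨W, hW⟩ := c.exists_completion ha ha2 hb hb2
  have hSM := c.sylow_le_normalizer hW ha ha2 hb hb2
  set M := normalizer (W : Set G) with hM
  let P : G → Prop := fun n => ∀ f, IsIn S₁ f → orderOf f = 2 → f ∈ M →
    n * f * n⁻¹ ∈ M ∧ n⁻¹ * f * n ∈ M
  have hP : ∀ n ∈ B, P n := by
    intro n hn
    refine closure_induction (p := fun n _ => P n) ?_ ?_ ?_ ?_ hn
    · rintro x ⟨hx, hx2⟩ f hf hf2 hfM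
      have h1 := c.conj_mem_normalizer hW hSM hf hfM hf2 hx hx2 hb hb2
      refine ⟨h1, ?_⟩
      rwa [inv_of_two hx2] at h1 ⊢
    · intro f _ _ hfM
      simpa using hfM
    · intro x y _ _ hx hy f hf hf2 hfM
      refine ⟨?_, ?_⟩
      · rw [show x * y * f * (x * y)⁻¹ = x * (y * f * y⁻¹) * x⁻¹ by group]
        exact (hx _ (isIn_conj hf y) (orderOf_conj_two y hf2) (hy f hf hf2 hfM).1).1
      · rw [show (x * y)⁻¹ * f * (x * y) = y⁻¹ * (x⁻¹ * f * x⁻¹⁻¹) * y by group]
        exact (hy _ (isIn_conj hf _) (orderOf_conj_two _ hf2)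
          (by rw [inv_inv]; exact (hx f hf hf2 hfM).2)).2
    · intro x _ hx f hf hf2 hfM
      rw [inv_inv]
      exact ⟨(hx f hf hf2 hfM).2, (hx f hf hf2 hfM).1⟩
  set A := normalClosure ({a} : Set G) with hA
  haveI : A.Normal := normalClosure_normal
  have hAM : A ≤ M := by
    rw [hA, normalClosure, closure_le]
    intro x hx
    obtain ⟨y, hy, hc⟩ := Group.mem_conjugatesOfSet_iff.mp hx
    obtain ⟨k, rfl⟩ := isConj_iff.mp hc
    obtain rfl : y = a := hy
    have hk : k ∈ ((B ⊔ S : Subgroup G) : Set G) := by rw [hH]; exact mem_top _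
    rw [Subgroup.normal_mul] at hk
    obtain ⟨n, hn, s, hs, rfl⟩ := hk
    show n * s * y * (n * s)⁻¹ ∈ M
    rw [show n * s * y * (n * s)⁻¹ = n * (s * y * s⁻¹) * n⁻¹ by group]
    exact (hP n hn _ (isIn_conj (isIn_self ha) s) (orderOf_conj_two s ha2)
      (mul_mem (mul_mem (hSM hs) (hSM (c.sc₁.1 ha))) (inv_mem (hSM hs)))).1
  refine c.commute_of_centralizes hW hSM ha ha2 hb hb2 ⟨g, b, hb, rfl⟩ hh2 fun k =>
    mem_centralizer_iff.mpr fun x hx => ?_
  refine (commutatorElement_eq_one_iff_mul_comm.mp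
    (eq_one_of_odd_normalized c.core (N := A) (D := W ⊓ A)
      ((Nat.coprime_two_right.mpr hW.odd).coprime_dvd_left (Subgroup.card_dvd_of_le inf_le_left))
      inf_le_right (Cfsg.Lib.Coprime.le_normalizer_inf hAM le_normalizer) ⟨?_, ?_⟩))
  · have hka := hAM (normalClosure_normal.conj_mem a (subset_normalClosure (Set.mem_singleton a)) k)
    rw [commutatorElement_def, mul_assoc, mul_assoc, ← mul_assoc (k * a * k⁻¹)]
    exact Subgroup.mul_mem _ hx ((mem_normalizer_iff.mp hka _).mp (Subgroup.inv_mem _ hx))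
  · have hka : k * a * k⁻¹ ∈ A := normalClosure_normal.conj_mem a (subset_normalClosure (Set.mem_singleton a)) k
    rw [commutatorElement_def]
    exact Subgroup.mul_mem _ ((inferInstance : A.Normal).conj_mem _ hka x) (Subgroup.inv_mem _ hka)

/-- The main theorem under the standing hypotheses. -/
theorem commutator_eq_bot
    (hnorm : ∀ V : Subgroup G, V.Normal → V ≤ S₁ → V = ⊥)
    (hnorm' : ∀ V : Subgroup G, V.Normal → V ≤ S₂ → V = ⊥) (h1 : S₁ ≠ ⊥) (h2 : S₂ ≠ ⊥) :
    ⁅normalClosure (S₁ : Set G), normalClosure (S₂ : Set G)⁆ = ⊥ := by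
  haveI : Fact (Nat.Prime 2) := ⟨Nat.prime_two⟩
  set N₁ := normalClosure (S₁ : Set G)
  set N₂ := normalClosure (S₂ : Set G)
  haveI : N₁.Normal := normalClosure_normal
  let I : Subgroup G → Subgroup G := fun T => normalClosure {x : G | x ∈ T ∧ orderOf x = 2}
  set A := I S₁ with hA
  set B := I S₂ with hB
  haveI : A.Normal := normalClosure_normal
  haveI : B.Normal := normalClosure_normal
  haveI : (centralizer (A : Set G)).Normal := normal_centralizer
  haveI : (centralizer (B : Set G)).Normal := normal_centralizer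
  haveI : (centralizer (N₁ : Set G)).Normal := normal_centralizer
  have notp : ∀ {T : Subgroup G}, Cfsg.IsStronglyClosed T (S : Subgroup G) →
      (∀ V : Subgroup G, V.Normal → V ≤ T → V = ⊥) →
      ∀ z ∈ T, orderOf z = 2 → ¬ IsPGroup 2 (I T) := by
    intro T hT hn z hz hz2 hp
    have hle : I T ≤ (S : Subgroup G) := by
      obtain ⟨R, hR⟩ := hp.exists_le_sylow
      obtain ⟨k, hk⟩ := MulAction.exists_smul_eq G R S
      intro x hx
      have hmem : k⁻¹ * x * k⁻¹⁻¹ ∈ (R : Subgroup G) := hR (normalClosure_normal.conj_mem x hx k⁻¹)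
      rw [← hk, Sylow.coe_subgroup_smul, Subgroup.mem_pointwise_smul_iff_inv_smul_mem]
      simpa [MulAut.smul_def, mul_assoc] using hmem
    have hIT : I T ≤ T := by
      refine (closure_le _).mpr fun x hx => ?_
      obtain ⟨y, hy, hc⟩ := Group.mem_conjugatesOfSet_iff.mp hx
      obtain ⟨k, rfl⟩ := isConj_iff.mp hc
      exact hT.2 y hy.1 k (hle (normalClosure_normal.conj_mem y (subset_normalClosure hy) k))
    have := hn _ normalClosure_normal hIT
    have hz' : z ∈ I T := subset_normalClosure ⟨hz, hz2⟩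
    rw [show I T = ⊥ from this, mem_bot] at hz'
    rw [hz', orderOf_one] at hz2; omega
  obtain ⟨a, ha, ha2, -⟩ := c.exists_central_involution h1
  obtain ⟨b, hb, hb2, -⟩ := c.symm.exists_central_involution h2
  have hBA : B ≤ centralizer (A : Set G) := by
    refine normalClosure_le_normal fun y hy => mem_centralizer_iff.mpr fun x hx => ?_
    have hAc : A ≤ centralizer ({y} : Set G) := by
      refine (closure_le _).mpr fun z hz => ?_
      obtain ⟨z₀, hz₀, hc⟩ := Group.mem_conjugatesOfSet_iff.mp hz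
      obtain ⟨k, rfl⟩ := isConj_iff.mp hc
      have h := c.commute_involutions hz₀.1 hz₀.2 (isIn_conj (isIn_self hy.1) k⁻¹)
        (orderOf_conj_two k⁻¹ hy.2)
      refine mem_centralizer_singleton_iff.mpr ?_
      calc k * z₀ * k⁻¹ * y = k * (z₀ * (k⁻¹ * y * k⁻¹⁻¹)) * k⁻¹ := by group
        _ = k * (k⁻¹ * y * k⁻¹⁻¹ * z₀) * k⁻¹ := by rw [h]
        _ = y * (k * z₀ * k⁻¹) := by group
    exact mem_centralizer_singleton_iff.mp (hAc hx)
  have hstep : ∀ (N : Subgroup G) [N.Normal], N ⊔ (S : Subgroup G) ≠ ⊤ → ∀ x y, x ∈ N ⊔ (S : Subgroup G) →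
      IsIn S₁ x → y ∈ N ⊔ (S : Subgroup G) → IsIn S₂ y → (x ∈ N ∨ y ∈ N) → x * y = y * x := by
    intro N hNn hne x y hx hx1 hy hy1 hor
    refine commutatorElement_eq_one_iff_mul_comm.mp
      (eq_one_of_odd_normalized c.core (N := N) (D := coreOf (N ⊔ (S : Subgroup G)) ⊓ N) ?_
        inf_le_right ?_ ⟨(c.sep _ hne).comm_mem hx hx1 hy hy1, ?_⟩)
    · refine (coprime_card_pPrimeCore (G := ↥(N ⊔ (S : Subgroup G))) 2).coprime_dvd_left ?_
      exact (Subgroup.card_dvd_of_le inf_le_left).trans (card_map_dvd _ _)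
    · refine Cfsg.Lib.Coprime.le_normalizer_inf ((le_sup_left : N ≤ N ⊔ (S : Subgroup G)).trans ?_) le_normalizer
      conv_lhs => rw [← range_subtype (N ⊔ (S : Subgroup G)), MonoidHom.range_eq_map]
      exact le_trans (Subgroup.map_mono (normalizer_eq_top _).ge) (le_normalizer_map _)
    · rw [commutatorElement_def]
      rcases hor with h | h
      · rw [show x * y * x⁻¹ * y⁻¹ = x * (y * x⁻¹ * y⁻¹) by group]
        exact Subgroup.mul_mem _ h (hNn.conj_mem _ (Subgroup.inv_mem _ h) y)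
      · exact Subgroup.mul_mem _ (hNn.conj_mem y h x) (Subgroup.inv_mem _ h)
  have hH1 : B ⊔ (S : Subgroup G) ≠ ⊤ := fun h =>
    notp c.sc₁ hnorm a ha ha2 (isPGroup_of_supplement c.core S A B hBA h)
  have hN₁B : N₁ ≤ centralizer (B : Set G) := by
    refine normalClosure_le_normal fun x hx => mem_centralizer_iff.mpr fun y hy => ?_
    have hBc : B ≤ centralizer ({x} : Set G) := by
      refine (closure_le _).mpr fun z hz => ?_
      obtain ⟨z₀, hz₀, hc⟩ := Group.mem_conjugatesOfSet_iff.mp hz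
      obtain ⟨k, rfl⟩ := isConj_iff.mp hc
      have hzB : k * z₀ * k⁻¹ ∈ B :=
        normalClosure_normal.conj_mem z₀ (subset_normalClosure hz₀) k
      exact mem_centralizer_singleton_iff.mpr (hstep B hH1 x _ (mem_sup_right (c.sc₁.1 hx))
        (isIn_self hx) (mem_sup_left hzB) (isIn_conj (isIn_self hz₀.1) k) (Or.inr hzB)).symm
    exact mem_centralizer_singleton_iff.mp (hBc hy)
  have hH2 : N₁ ⊔ (S : Subgroup G) ≠ ⊤ := fun h =>
    notp c.sc₂ hnorm' b hb hb2 (isPGroup_of_supplement c.core S B N₁ hN₁B h)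
  rw [commutator_comm]
  refine commutator_eq_bot_iff_le_centralizer.mpr
    (normalClosure_le_normal fun y hy => mem_centralizer_iff.mpr fun x hx => ?_)
  have hNc : N₁ ≤ centralizer ({y} : Set G) := normalClosure_le_iff_isIn fun z hz =>
    mem_centralizer_singleton_iff.mpr (hstep N₁ hH2 z y (mem_sup_left (le_normalClosure_of_isIn hz))
      hz (mem_sup_right (c.sc₂.1 hy)) (isIn_self hy) (Or.inl (le_normalClosure_of_isIn hz)))
  exact mem_centralizer_singleton_iff.mp (hNc hx)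

end Ctx

/-- Product fusion: the commutator of the two normal closures lies in the odd core. -/
theorem goal_aux : ∀ (n : ℕ) (G : Type u) [Group G] [Finite G], Nat.card G = n → Goal G := by
  intro n
  induction n using Nat.strong_induction_on with
  | _ n ih =>
    intro G _ _ hn
    intro S S₁ S₂ h₁ h₂ hc hd
    haveI : Fact (Nat.Prime 2) := ⟨Nat.prime_two⟩
    have hq : ∀ N : Subgroup G, ∀ [N.Normal], N ≠ ⊥ → Goal (G ⧸ N) := by
      intro N _ hN
      refine ih (Nat.card (G ⧸ N)) ?_ _ rfl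
      rw [← hn, ← Subgroup.index_eq_card N, ← N.card_mul_index]
      exact lt_mul_left Nat.card_pos (N.one_lt_card_iff_ne_bot.mpr hN)
    by_cases hO : pPrimeCore 2 G = ⊥
    swap
    · haveI : (pPrimeCore 2 G).Normal := inferInstance
      have h := le_comap_of_goal S h₁ h₂ hc (pPrimeCore 2 G) (fun a ha b hb hab => by
        obtain ⟨i, hi⟩ := S.isPGroup' ⟨a⁻¹ * b, mul_mem (inv_mem (h₁.1 ha)) (h₂.1 hb)⟩
        have h1 : orderOf (a⁻¹ * b) ∣ 2 ^ i :=
          orderOf_dvd_of_pow_eq_one (congrArg Subtype.val hi)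
        have h2 := Subgroup.orderOf_dvd_natCard _ hab
        have h3 : a⁻¹ * b = 1 := orderOf_eq_one_iff.mp (Nat.eq_one_of_dvd_coprimes
          ((coprime_card_pPrimeCore (G := G) 2).pow_right i) h2 h1)
        rw [inv_mul_eq_one] at h3
        have : a ∈ S₁ ⊓ S₂ := ⟨ha, h3 ▸ hb⟩
        rw [hd, mem_bot] at this
        rw [this]; exact one_mem _) (hq _ hO)
      rwa [Cfsg.Lib.Components.pPrimeCore_quotient_eq_bot, MonoidHom.comap_bot,
        QuotientGroup.ker_mk'] at h
    suffices h : ⁅normalClosure (S₁ : Set G), normalClosure (S₂ : Set G)⁆ = ⊥ by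
      rw [h]; exact bot_le
    by_cases hV : ∃ V : Subgroup G, V.Normal ∧ V ≤ S₁ ∧ V ≠ ⊥
    · obtain ⟨V, hVn, hVS, hV1⟩ := hV
      exact of_normal_le hO S h₁ h₂ hc hd V hVS (hq V hV1)
    by_cases hV' : ∃ V : Subgroup G, V.Normal ∧ V ≤ S₂ ∧ V ≠ ⊥
    · obtain ⟨V, hVn, hVS, hV1⟩ := hV'
      rw [commutator_comm]
      exact of_normal_le hO S h₂ h₁ (fun a ha b hb => (hc b hb a ha).symm)
        (by rw [inf_comm]; exact hd) V hVS (hq V hV1)
    push Not at hV hV'
    by_cases h1 : S₁ = ⊥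
    · rw [show normalClosure (S₁ : Set G) = ⊥ from le_bot_iff.mp (normalClosure_le_normal (by rw [h1])),
        commutator_bot_left]
    by_cases h2 : S₂ = ⊥
    · rw [show normalClosure (S₂ : Set G) = ⊥ from le_bot_iff.mp (normalClosure_le_normal (by rw [h2])),
        commutator_bot_right]
    have nn : ∀ {T : Subgroup G}, (∀ V : Subgroup G, V.Normal → V ≤ T → V = ⊥) →
        ∀ x ∈ T, x ∈ center G → x = 1 := by
      intro T hT x hx hxc
      have := hT (zpowers x) ⟨fun y hy k => by rw [(mem_center_iff.mp ((zpowers_le.mpr hxc) hy) k), mul_inv_cancel_right]; exact hy⟩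
        (zpowers_le.mpr hx)
      rwa [zpowers_eq_bot] at this
    have c : Ctx S S₁ S₂ :=
      { sc₁ := h₁, sc₂ := h₂, comm := hc, disj := hd, core := hO, nn₁ := nn hV, nn₂ := nn hV'
        sep := fun H hH => separated_of_goal S h₁ h₂ hc hd
          (ih (Nat.card H) (hn ▸ lt_of_le_of_ne (Subgroup.card_le_card_group H)
            (fun h => hH (Subgroup.eq_top_of_card_eq H h))) _ rfl) }
    exact c.commutator_eq_bot hV hV' h1 h2

theorem product_fusion (G : Type u) [Group G] [Finite G] : Goal G := goal_aux _ G rfl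

end Cfsg.Lib.ProdFusion
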