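import Cfsg.Agent.TwoFusion.Product.Main

/-!
Product fusion when the Sylow 2-subgroup is the product of the two strongly closed subgroups:
the normal closures meet trivially, so the group splits.
-/

set_option autoImplicit false
set_option linter.style.haveILetI false
set_option linter.unusedSectionVars false

namespace Cfsg.Lib.ProdFusion

open Subgroup
open Cfsg.Lib.Components
open scoped commutatorElement

universe u

variable {G : Type u} [Group G] [Finite G]

theorem relIndex_sup_eq (N P : Subgroup G) [N.Normal] : P.relIndex (N ⊔ P) = P.relIndex N := by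
  rw [← inf_relIndex_right P N]
  have h1 := Subgroup.relIndex_mul_relIndex (P ⊓ N) P (N ⊔ P) inf_le_left le_sup_right
  have h2 := Subgroup.relIndex_mul_relIndex (P ⊓ N) N (N ⊔ P) inf_le_right le_sup_left
  rw [Subgroup.relIndex_sup_left, inf_relIndex_left P N] at *
  rw [mul_comm ((P ⊓ N).relIndex N)] at h2
  rw [← h1] at h2
  exact (Nat.eq_of_mul_eq_mul_left (Nat.pos_of_ne_zero Subgroup.index_ne_zero_of_finite) h2).symm

theorem odd_relIndex_normal (S : Sylow 2 G) (N : Subgroup G) [N.Normal] :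
    Odd ((S : Subgroup G).relIndex N) := by
  haveI : Fact (Nat.Prime 2) := ⟨Nat.prime_two⟩
  rw [Nat.odd_iff, Nat.two_dvd_ne_zero.symm]
  refine fun h => S.not_dvd_index (h.trans ?_)
  rw [← relIndex_sup_eq N (S : Subgroup G)]
  exact Subgroup.relIndex_dvd_index_of_le le_sup_right

section Split

variable (hO : pPrimeCore 2 G = ⊥) (S : Sylow 2 G) {S₁ S₂ : Subgroup G}
  (h₁ : Cfsg.IsStronglyClosed S₁ (S : Subgroup G)) (h₂ : Cfsg.IsStronglyClosed S₂ (S : Subgroup G))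
  (hp : Cfsg.IsInternalDirectProduct S₁ S₂ (S : Subgroup G))

include hO h₁ h₂ hp

theorem commute_normalClosures {x y : G} (hx : x ∈ normalClosure (S₁ : Set G))
    (hy : y ∈ normalClosure (S₂ : Set G)) : x * y = y * x := by
  have h := product_fusion G S S₁ S₂ h₁ h₂ hp.2.2.1 hp.2.2.2.1 (commutator_mem_commutator hx hy)
  rw [hO, mem_bot] at h
  exact commutatorElement_eq_one_iff_mul_comm.mp h

theorem exists_decomp {t : G} (ht : t ∈ normalClosure (S₁ : Set G)) (htS : t ∈ (S : Subgroup G)) :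
    ∃ a ∈ S₁, ∃ b ∈ S₂, b ∈ normalClosure (S₁ : Set G) ∧ t = a * b := by
  obtain ⟨hS₁, hS₂, hc, -, hsup⟩ := hp
  have hle : S₂ ≤ normalizer (S₁ : Set G) := fun b hb => (mem_normalizer_iff.mpr fun a => by
    constructor
    · intro ha
      rw [← hc a ha b hb, mul_inv_cancel_right]; exact ha
    · intro ha
      have h := hc _ ha b hb
      rw [inv_mul_cancel_right] at h
      rwa [mul_left_cancel h])
  have hmem : t ∈ ((S₁ ⊔ S₂ : Subgroup G) : Set G) := by rw [hsup]; exact htS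
  rw [coe_mul_of_right_le_normalizer_left S₁ S₂ hle] at hmem
  obtain ⟨a, ha, b, hb, rfl⟩ := hmem
  refine ⟨a, ha, b, hb, ?_, rfl⟩
  have := Subgroup.mul_mem _ (Subgroup.inv_mem _ (subset_normalClosure (s := (S₁ : Set G)) ha)) ht
  simpa using this

theorem normalClosure_inf_eq_bot : normalClosure (S₁ : Set G) ⊓ S₂ = ⊥ := by
  haveI : Fact (Nat.Prime 2) := ⟨Nat.prime_two⟩
  set N := normalClosure (S₁ : Set G) with hN
  haveI : N.Normal := normalClosure_normal
  set Y := N ⊓ S₂ with hY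
  haveI : IsMulCommutative Y := ⟨⟨fun a b => Subtype.ext
    (commute_normalClosures hO S h₁ h₂ hp a.2.1 (subset_normalClosure b.2.2))⟩⟩
  letI : CommGroup Y := { (inferInstance : Group Y) with
    mul_comm := fun a b => Subtype.ext
      (commute_normalClosures hO S h₁ h₂ hp a.2.1 (subset_normalClosure b.2.2)) }
  set T : Subgroup N := (S : Subgroup G).subgroupOf N with hT
  have hex : ∀ t : T, ∃ y : Y, ((t : N) : G) * (y : G)⁻¹ ∈ S₁ := by
    intro t
    obtain ⟨a, ha, b, hb, hbN, he⟩ := exists_decomp hO S h₁ h₂ hp (t : N).2 t.2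
    exact ⟨⟨b, hbN, hb⟩, by rw [he]; simpa using ha⟩
  have huniq : ∀ (g : G) (y y' : Y), g * (y : G)⁻¹ ∈ S₁ → g * (y' : G)⁻¹ ∈ S₁ → y = y' := by
    intro g y y' h h'
    have he : (y : G) * (y' : G)⁻¹ = (g * (y : G)⁻¹)⁻¹ * (g * (y' : G)⁻¹) := by group
    have hmem : (y : G) * (y' : G)⁻¹ ∈ S₁ ⊓ S₂ :=
      ⟨he ▸ Subgroup.mul_mem _ (Subgroup.inv_mem _ h) h',
        Subgroup.mul_mem _ y.2.2 (Subgroup.inv_mem _ y'.2.2)⟩
    rw [hp.2.2.2.1, mem_bot, mul_inv_eq_one] at hmem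
    exact Subtype.ext hmem
  choose lam hlam using hex
  let φ : T →* Y :=
    MonoidHom.mk' lam fun t t' => by
      refine huniq _ _ _ (hlam (t * t')) ?_
      have hcm := commute_normalClosures hO S h₁ h₂ hp (t' : N).2
        (subset_normalClosure (Subgroup.inv_mem _ (lam t).2.2))
      have he : ((t * t' : T) : N) * ((lam t * lam t' : Y) : G)⁻¹ =
          ((t : N) : G) * (lam t : G)⁻¹ * (((t' : N) : G) * (lam t' : G)⁻¹) := by
        rw [mul_comm (lam t)]
        push_cast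
        rw [_root_.mul_inv_rev]
        calc ((t : N) : G) * ((t' : N) : G) * ((lam t : G)⁻¹ * (lam t' : G)⁻¹)
            = ((t : N) : G) * (((t' : N) : G) * (lam t : G)⁻¹) * (lam t' : G)⁻¹ := by group
          _ = ((t : N) : G) * ((lam t : G)⁻¹ * ((t' : N) : G)) * (lam t' : G)⁻¹ := by rw [hcm]
          _ = _ := by group
      rw [he]
      exact Subgroup.mul_mem _ (hlam t) (hlam t')
  have hφ : ∀ t : T, ((t : N) : G) ∈ S₁ → φ t = 1 := fun t ht =>
    huniq _ _ _ (hlam t) (by simpa using ht)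
  classical
  let τ : N →* Y := MonoidHom.transfer φ
  have hgen : ∀ h : N, IsIn S₁ (h : G) → τ h = 1 := by
    intro h hh
    obtain ⟨g, s, hs, hgs⟩ := hh
    show MonoidHom.transfer φ h = 1
    letI := T.fintypeQuotientOfFiniteIndex
    rw [MonoidHom.transfer_eq_prod_quotient_orbitRel_zpowers_quot]
    refine Finset.prod_eq_one fun q _ => hφ _ ?_
    set k := Function.minimalPeriod (h • ·) q.out
    set r : N := q.out.out with hr
    have hmem : ((r⁻¹ * h ^ k * r : N) : G) ∈ (S : Subgroup G) :=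
      (QuotientGroup.out_conj_pow_minimalPeriod_mem T h q.out)
    have he : ((r⁻¹ * h ^ k * r : N) : G) = ((r : G)⁻¹ * g) * s ^ k * ((r : G)⁻¹ * g)⁻¹ := by
      push_cast
      rw [hgs, conj_pow]
      group
    show ((r⁻¹ * h ^ k * r : N) : G) ∈ S₁
    rw [he] at hmem ⊢
    exact h₁.2 _ (Subgroup.pow_mem _ hs k) _ hmem
  have hle : N ≤ τ.ker.map N.subtype := by
    refine (closure_le _).mpr fun x hx => ?_
    obtain ⟨s, hs, hc⟩ := Group.mem_conjugatesOfSet_iff.mp hx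
    obtain ⟨g, rfl⟩ := isConj_iff.mp hc
    exact ⟨⟨g * s * g⁻¹, le_normalClosure_of_isIn ⟨g, s, hs, rfl⟩⟩,
      hgen _ ⟨g, s, hs, rfl⟩, rfl⟩
  rw [eq_bot_iff]
  intro y hy
  have hyS : y ∈ (S : Subgroup G) := hp.2.1 hy.2
  obtain ⟨n, hn, hne⟩ := hle hy.1
  have hn' : n = ⟨y, hy.1⟩ := Subtype.ext hne
  subst hn'
  have hpow : τ ⟨y, hy.1⟩ = φ ⟨⟨y, hy.1⟩ ^ T.index, Subgroup.pow_mem _ hyS _⟩ := by
    refine MonoidHom.transfer_eq_pow φ _ fun k g₀ _ => ?_
    have hc : g₀ * (⟨y, hy.1⟩ : N) = ⟨y, hy.1⟩ * g₀ :=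
      Subtype.ext (commute_normalClosures hO S h₁ h₂ hp g₀.2 (subset_normalClosure hy.2))
    rw [mul_assoc, ← (Commute.pow_right hc k).eq, inv_mul_cancel_left]
  have hval : φ ⟨⟨y, hy.1⟩ ^ T.index, Subgroup.pow_mem _ hyS _⟩ = (⟨y, hy⟩ : Y) ^ T.index :=
    huniq _ _ _ (hlam _) (by push_cast; rw [mul_inv_cancel]; exact one_mem _)
  have h0 : y ^ T.index = 1 := by
    have : τ ⟨y, hy.1⟩ = 1 := MonoidHom.mem_ker.mp hn
    rw [hpow, hval] at this
    exact congrArg Subtype.val this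
  have hodd : ¬ 2 ∣ T.index := fun h => by
    have := Nat.odd_iff.mp (odd_relIndex_normal S N)
    exact Nat.two_dvd_ne_zero.mpr this h
  obtain ⟨i, hi⟩ := S.isPGroup' ⟨y, hyS⟩
  rw [mem_bot, ← orderOf_eq_one_iff]
  exact Nat.eq_one_of_dvd_coprimes
    ((Nat.Prime.coprime_iff_not_dvd Nat.prime_two).mpr hodd |>.pow_left i)
    (orderOf_dvd_of_pow_eq_one (congrArg Subtype.val hi)) (orderOf_dvd_of_pow_eq_one h0)

omit h₁ h₂ hp in
theorem inf_normalClosures_le_sylow {N₁ N₂ : Subgroup G} [N₁.Normal] [N₂.Normal]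
    (hc : ∀ x ∈ N₁, ∀ y ∈ N₂, x * y = y * x) : N₁ ⊓ N₂ ≤ (S : Subgroup G) := by
  haveI : Fact (Nat.Prime 2) := ⟨Nat.prime_two⟩
  have hp2 : IsPGroup 2 ↥(N₁ ⊓ N₂) := by
    intro x
    obtain ⟨k, m, hm, hx⟩ :=
      Nat.exists_eq_pow_mul_and_not_dvd (orderOf_pos x).ne' 2 (by norm_num)
    refine ⟨k, ?_⟩
    let K : Subgroup G :=
      { carrier := {y | y ∈ N₁ ⊓ N₂ ∧ y ^ m = 1}
        one_mem' := ⟨one_mem _, one_pow _⟩
        mul_mem' := fun {a b} ha hb => ⟨mul_mem ha.1 hb.1, by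
          rw [(show Commute a b from hc a ha.1.1 b hb.1.2).mul_pow, ha.2, hb.2, one_mul]⟩
        inv_mem' := fun {a} ha => ⟨inv_mem ha.1, by rw [inv_pow, ha.2, inv_one]⟩ }
    haveI : K.Normal := ⟨fun y hy g =>
      ⟨(inferInstance : (N₁ ⊓ N₂).Normal).conj_mem y hy.1 g, by
        rw [conj_pow, hy.2, mul_one, mul_inv_cancel]⟩⟩
    have hK : (Nat.card K).Coprime 2 := by
      refine (Nat.coprime_comm.mp ((Nat.Prime.coprime_iff_not_dvd Nat.prime_two).mpr fun h => ?_))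
      obtain ⟨y, hy⟩ := exists_prime_orderOf_dvd_card' 2 h
      have h1 : orderOf y ∣ m := orderOf_dvd_of_pow_eq_one (Subtype.ext y.2.2)
      rw [hy] at h1
      exact hm h1
    have hmem : ((x ^ 2 ^ k : ↥(N₁ ⊓ N₂)) : G) ∈ K := ⟨SetLike.coe_mem _, by
      rw [← SubmonoidClass.coe_pow, ← pow_mul, ← hx, pow_orderOf_eq_one]; rfl⟩
    have := le_pPrimeCore hK hmem
    rw [hO, mem_bot] at this
    exact Subtype.ext this
  obtain ⟨R, hR⟩ := hp2.exists_le_sylow
  obtain ⟨k, hk⟩ := MulAction.exists_smul_eq G R S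
  intro x hx
  have hmem : k⁻¹ * x * k⁻¹⁻¹ ∈ (R : Subgroup G) :=
    hR ((inferInstance : (N₁ ⊓ N₂).Normal).conj_mem x hx k⁻¹)
  rw [← hk, Sylow.coe_subgroup_smul, Subgroup.mem_pointwise_smul_iff_inv_smul_mem]
  simpa [MulAut.smul_def, mul_assoc] using hmem

theorem normalClosure_inf_sylow : normalClosure (S₁ : Set G) ⊓ (S : Subgroup G) = S₁ := by
  refine le_antisymm (fun t ht => ?_) (le_inf (fun s hs => subset_normalClosure hs) h₁.1)
  obtain ⟨a, ha, b, hb, hbN, rfl⟩ := exists_decomp hO S h₁ h₂ hp ht.1 ht.2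
  have : b ∈ normalClosure (S₁ : Set G) ⊓ S₂ := ⟨hbN, hb⟩
  rw [normalClosure_inf_eq_bot hO S h₁ h₂ hp, mem_bot] at this
  rwa [this, mul_one]

theorem odd_relIndex_normalClosure : Odd (S₁.relIndex (normalClosure (S₁ : Set G))) := by
  haveI : (normalClosure (S₁ : Set G)).Normal := normalClosure_normal
  have h := odd_relIndex_normal S (normalClosure (S₁ : Set G))
  rwa [← inf_relIndex_right, inf_comm, normalClosure_inf_sylow hO S h₁ h₂ hp] at h

theorem normalClosures_inf_eq_bot :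
    normalClosure (S₁ : Set G) ⊓ normalClosure (S₂ : Set G) = ⊥ := by
  haveI : (normalClosure (S₁ : Set G)).Normal := normalClosure_normal
  haveI : (normalClosure (S₂ : Set G)).Normal := normalClosure_normal
  obtain ⟨hS₁, hS₂, hcm, hd, hsup⟩ := hp
  have hp' : Cfsg.IsInternalDirectProduct S₂ S₁ (S : Subgroup G) :=
    ⟨hS₂, hS₁, fun a ha b hb => (hcm b hb a ha).symm, by rw [inf_comm]; exact hd,
      by rw [sup_comm]; exact hsup⟩
  have hp : Cfsg.IsInternalDirectProduct S₁ S₂ (S : Subgroup G) := ⟨hS₁, hS₂, hcm, hd, hsup⟩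
  rw [eq_bot_iff]
  intro z hz
  have hzS := inf_normalClosures_le_sylow hO S
    (fun x hx y hy => commute_normalClosures hO S h₁ h₂ hp hx hy) hz
  have h1 : z ∈ S₁ := by rw [← normalClosure_inf_sylow hO S h₁ h₂ hp]; exact ⟨hz.1, hzS⟩
  have h2 : z ∈ S₂ := by rw [← normalClosure_inf_sylow hO S h₂ h₁ hp']; exact ⟨hz.2, hzS⟩
  rw [← hd]; exact ⟨h1, h2⟩

end Split

end Cfsg.Lib.ProdFusion
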