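import Cfsg.Agent.Components.Misc.CoreSeparatedFunctor
import Cfsg.Agent.InvolCalc.ZStarApps
import Cfsg.Agent.InvolCalc.Classes

/-!
Conjugates of elements of two commuting strongly closed 2-subgroups inside local subgroups.
-/

set_option autoImplicit false
set_option linter.style.haveILetI false
set_option linter.unusedSectionVars false

namespace Cfsg.Lib.ProdFusion

open Subgroup
open Cfsg.Lib.Components
open Cfsg.Lib.CoreSep
open scoped commutatorElement

universe u

variable {G : Type u} [Group G] [Finite G]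

/-- `x` is conjugate to an element of `A`. -/
def IsIn (A : Subgroup G) (x : G) : Prop := ∃ g : G, ∃ s ∈ A, x = g * s * g⁻¹

/-- The subgroup of `H` generated by its elements conjugate to elements of `A`. -/
def clos (A H : Subgroup G) : Subgroup G := closure {x | x ∈ H ∧ IsIn A x}

/-- `O(H)` as a subgroup of the ambient group. -/
abbrev coreOf (H : Subgroup G) : Subgroup G := (pPrimeCore 2 ↥H).map H.subtype

theorem isIn_self {A : Subgroup G} {x : G} (hx : x ∈ A) : IsIn A x :=
  ⟨1, x, hx, by simp⟩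

theorem isIn_conj {A : Subgroup G} {x : G} (hx : IsIn A x) (h : G) : IsIn A (h * x * h⁻¹) := by
  obtain ⟨g, s, hs, rfl⟩ := hx
  exact ⟨h * g, s, hs, by group⟩

theorem clos_le (A H : Subgroup G) : clos A H ≤ H :=
  (closure_le H).mpr fun _ hx => hx.1

theorem mem_clos {A H : Subgroup G} {x : G} (hx : x ∈ H) (h : IsIn A x) : x ∈ clos A H :=
  subset_closure ⟨hx, h⟩

theorem le_normalizer_clos (A H : Subgroup G) : H ≤ normalizer (clos A H : Set G) := by
  intro h hh
  refine Cfsg.Lib.ZStarApps.mem_normalizer_of_maps fun x hx => ?_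
  have : clos A H ≤ (clos A H).comap (MulAut.conj h).toMonoidHom :=
    (closure_le _).mpr fun y hy =>
      mem_clos (H.mul_mem (H.mul_mem hh hy.1) (H.inv_mem hh)) (isIn_conj hy.2 h)
  exact this hx

/-- a normal subgroup of odd order of a normal subgroup of a core-free group is trivial -/
theorem eq_one_of_odd_normalized {X : Type u} [Group X] [Finite X] (hO : pPrimeCore 2 X = ⊥)
    {N D : Subgroup X} [hN : N.Normal] (hD : (Nat.card D).Coprime 2) (hDN : D ≤ N)
    (hn : N ≤ normalizer (D : Set X)) {x : X} (hx : x ∈ D) : x = 1 := by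
  haveI : (D.subgroupOf N).Normal := normal_subgroupOf_of_le_normalizer hn
  have h1 : D.subgroupOf N ≤ pPrimeCore 2 N :=
    le_pPrimeCore (by rwa [card_subgroupOf_of_le hDN])
  have h2 : x ∈ (pPrimeCore 2 N).map N.subtype := ⟨⟨x, hDN hx⟩, h1 hx, rfl⟩
  rw [pPrimeCore_map_subtype_eq hN.isSubnormal, hO, bot_inf_eq] at h2
  exact mem_bot.mp h2

/-- In a core-free group with commuting normal subgroups `N₁ ∋ f` and `N₂ ∋ g`, the core of the
centralizer of `f` commutes with `g`. -/
theorem core_commutator_eq_one {X : Type u} [Group X] [Finite X] (hO : pPrimeCore 2 X = ⊥)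
    {N₁ N₂ : Subgroup X} [N₁.Normal] [hN₂ : N₂.Normal]
    (hc : N₂ ≤ centralizer (N₁ : Set X)) {f g z : X} (hf : f ∈ N₁) (hg : g ∈ N₂)
    (hz : z ∈ centralizerPPrimeCore 2 f) : ⁅z, g⁆ = 1 := by
  have hCf : N₂ ≤ centralizer ({f} : Set X) := fun y hy =>
    mem_centralizer_singleton_iff.mpr (mem_centralizer_iff.mp (hc hy) f hf).symm
  have hn : N₂ ≤ normalizer (centralizerPPrimeCore 2 f : Set X) :=
    hCf.trans (centralizer_le_normalizer_centralizerPPrimeCore f)
  refine eq_one_of_odd_normalized hO (N := N₂) (D := centralizerPPrimeCore 2 f ⊓ N₂) ?_ inf_le_right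
    (Cfsg.Lib.Coprime.le_normalizer_inf hn le_normalizer) ⟨?_, ?_⟩
  · exact (centralizerPPrimeCore_card_coprime (p := 2) f).coprime_dvd_left
      (Subgroup.card_dvd_of_le inf_le_left)
  · rw [commutatorElement_def, show z * g * z⁻¹ * g⁻¹ = z * (g * z⁻¹ * g⁻¹) by group]
    exact Subgroup.mul_mem _ hz ((mem_normalizer_iff.mp (hn hg) _).mp (Subgroup.inv_mem _ hz))
  · rw [commutatorElement_def]
    exact Subgroup.mul_mem _ (hN₂.conj_mem g hg z) (Subgroup.inv_mem _ hg)

/-- The two closures of a local subgroup commute modulo its core. -/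
def Separated (S₁ S₂ H : Subgroup G) : Prop := ⁅clos S₁ H, clos S₂ H⁆ ≤ coreOf H

theorem Separated.symm {S₁ S₂ H : Subgroup G} (h : Separated S₁ S₂ H) : Separated S₂ S₁ H := by
  rw [Separated, commutator_comm]; exact h

theorem Separated.comm_mem {S₁ S₂ H : Subgroup G} (h : Separated S₁ S₂ H) {x y : G} (hx : x ∈ H)
    (hx1 : IsIn S₁ x) (hy : y ∈ H) (hy2 : IsIn S₂ y) : ⁅x, y⁆ ∈ coreOf H :=
  h (commutator_mem_commutator (mem_clos hx hx1) (mem_clos hy hy2))

/-- The image in `H/O(H)` of the closure. -/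
abbrev qclos (A H : Subgroup G) : Subgroup (↥H ⧸ pPrimeCore 2 ↥H) :=
  ((clos A H).subgroupOf H).map (coreQ H)

theorem qclos_normal (A H : Subgroup G) : (qclos A H).Normal :=
  Subgroup.Normal.map (normal_subgroupOf_of_le_normalizer (le_normalizer_clos A H)) _
    (QuotientGroup.mk'_surjective _)

theorem mem_qclos {A H : Subgroup G} {x : G} (hx : x ∈ H) (h : x ∈ clos A H) :
    coreQ H ⟨x, hx⟩ ∈ qclos A H :=
  mem_map_of_mem _ h

theorem coreQ_eq_one_iff {H : Subgroup G} {x : G} (hx : x ∈ H) :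
    coreQ H ⟨x, hx⟩ = 1 ↔ x ∈ coreOf H := by
  constructor
  · exact fun h => ⟨⟨x, hx⟩, (QuotientGroup.eq_one_iff _).mp h, rfl⟩
  · rintro ⟨y, hy, hyx⟩
    rw [show (⟨x, hx⟩ : ↥H) = y from Subtype.ext hyx.symm]
    exact (QuotientGroup.eq_one_iff _).mpr hy

theorem qclos_commute {S₁ S₂ H : Subgroup G} (h : Separated S₁ S₂ H) :
    qclos S₂ H ≤ centralizer (qclos S₁ H : Set (↥H ⧸ pPrimeCore 2 ↥H)) := by
  rintro _ ⟨y, hy, rfl⟩
  refine mem_centralizer_iff.mpr ?_
  rintro _ ⟨x, hx, rfl⟩
  refine commutatorElement_eq_one_iff_mul_comm.mp ?_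
  rw [← map_commutatorElement]
  refine (coreQ_eq_one_iff (⁅x, y⁆).2).mpr ?_
  have := h (commutator_mem_commutator (H₁ := clos S₁ H) (H₂ := clos S₂ H) hx hy)
  simpa [commutatorElement_def] using this

/-- an element of odd order in both closures lies in the core -/
theorem mem_coreOf_of_mem_both {S₁ S₂ H : Subgroup G} (h : Separated S₁ S₂ H) {x : G} (hxH : x ∈ H)
    (hodd : (orderOf x).Coprime 2) (h1 : x ∈ clos S₁ H) (h2 : x ∈ clos S₂ H) : x ∈ coreOf H := by
  haveI := qclos_normal S₁ H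
  refine (coreQ_eq_one_iff hxH).mp (eq_one_of_odd_normalized pPrimeCore_quotient_eq_bot
    (N := qclos S₁ H) (D := zpowers (coreQ H ⟨x, hxH⟩)) ?_
    (zpowers_le.mpr (mem_qclos hxH h1)) ?_ (mem_zpowers _))
  · rw [Nat.card_zpowers]
    refine hodd.coprime_dvd_left ((orderOf_map_dvd _ _).trans ?_)
    rw [Subgroup.orderOf_mk]
  · refine le_trans ?_ (centralizer_le_normalizer _)
    intro y hy
    refine mem_centralizer_iff.mpr fun z hz => ?_
    obtain ⟨k, rfl⟩ := mem_zpowers_iff.mp hz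
    exact (Commute.zpow_left
      (mem_centralizer_iff.mp (qclos_commute h (mem_qclos hxH h2)) y hy).symm k).eq

/-- the core of the centralizer of a first-kind element commutes with second-kind elements
modulo the core -/
theorem commutator_mem_coreOf {S₁ S₂ H : Subgroup G} (h : Separated S₁ S₂ H) {f g z : G}
    (hfH : f ∈ H) (hf : IsIn S₁ f) (hfp : IsPGroup 2 (zpowers f)) (hgH : g ∈ H) (hg : IsIn S₂ g)
    (hz : z ∈ centralizerPPrimeCore 2 f) (hzH : z ∈ H) : ⁅z, g⁆ ∈ coreOf H := by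
  haveI := qclos_normal S₁ H
  haveI := qclos_normal S₂ H
  have h1 := core_commutator_eq_one pPrimeCore_quotient_eq_bot (qclos_commute h)
    (mem_qclos hfH (mem_clos hfH hf)) (mem_qclos hgH (mem_clos hgH hg))
    (core_image hfH hfp hz hzH)
  rw [← map_commutatorElement] at h1
  have := (coreQ_eq_one_iff (⁅(⟨z, hzH⟩ : ↥H), (⟨g, hgH⟩ : ↥H)⁆).2).mp h1
  simpa [commutatorElement_def] using this

end Cfsg.Lib.ProdFusion
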