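import Cfsg.Agent.TwoFusion.Product.Involutions

/-!
The completion of the functor is the same for all pairs of four-groups inside the two strongly
closed subgroups; consequently involutions of the two kinds centralize each other.
-/

set_option autoImplicit false
set_option linter.style.haveILetI false
set_option linter.unusedSectionVars false

namespace Cfsg.Lib.ProdFusion

open Subgroup
open Cfsg.Lib.Components
open Cfsg.Lib.CoreSep
open scoped commutatorElement

universe u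

variable {G : Type u} [Group G] [Finite G]

/-- the four-group of two commuting distinct involutions -/
theorem exists_four {x z : G} (hx : orderOf x = 2) (hz : orderOf z = 2) (hc : x * z = z * x)
    (hne : x ≠ z) :
    Cfsg.IsElementaryAbelian 2 (zpowers x ⊔ zpowers z : Subgroup G) ∧
      Nat.card (zpowers x ⊔ zpowers z : Subgroup G) = 4 := by
  have hn : zpowers z ≤ normalizer ((zpowers x : Subgroup G) : Set G) := by
    refine le_trans (zpowers_le.mpr ?_) (centralizer_le_normalizer _)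
    rw [Cfsg.Lib.Coprime.centralizer_zpowers, mem_centralizer_singleton_iff]
    exact hc.symm
  have h2 : ∀ y ∈ (zpowers x ⊔ zpowers z : Subgroup G), ∃ i j : ℤ, y = x ^ i * z ^ j := by
    intro y hy
    have hy' : y ∈ ((zpowers x ⊔ zpowers z : Subgroup G) : Set G) := hy
    rw [coe_mul_of_right_le_normalizer_left _ _ hn] at hy'
    obtain ⟨a, ⟨i, rfl⟩, b, ⟨j, rfl⟩, rfl⟩ := hy'
    exact ⟨i, j, rfl⟩
  have hC : Commute x z := hc
  have hx2 : x ^ 2 = 1 := by rw [← hx, pow_orderOf_eq_one]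
  have hz2 : z ^ 2 = 1 := by rw [← hz, pow_orderOf_eq_one]
  have hcard := Cfsg.Lib.Coprime.card_sup_mul_card_inf (N := zpowers x) (H := zpowers z) hn
  have hinf : zpowers x ⊓ zpowers z = ⊥ := by
    refine (eq_bot_iff_forall _).mpr fun y hy => ?_
    by_contra h1
    have e : ∀ u : G, orderOf u = 2 → y ∈ zpowers u → y = u := by
      intro u hu hyu
      have hu2 : u ^ 2 = 1 := by rw [← hu, pow_orderOf_eq_one]
      obtain ⟨i, rfl⟩ := mem_zpowers_iff.mp hyu
      rcases Int.even_or_odd i with ⟨t, rfl⟩ | ⟨t, rfl⟩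
      · exact absurd (by rw [← two_mul, zpow_mul, zpow_ofNat, hu2, one_zpow]) h1
      · rw [zpow_add, zpow_mul, zpow_ofNat, hu2, one_zpow, one_mul, zpow_one]
    exact hne ((e x hx hy.1).symm.trans (e z hz hy.2))
  refine ⟨⟨⟨⟨?_⟩⟩, ?_⟩, ?_⟩
  · rintro ⟨a, ha⟩ ⟨b, hb⟩
    obtain ⟨i, j, rfl⟩ := h2 a ha
    obtain ⟨k, l, rfl⟩ := h2 b hb
    refine Subtype.ext ?_
    show x ^ i * z ^ j * (x ^ k * z ^ l) = x ^ k * z ^ l * (x ^ i * z ^ j)
    exact ((((Commute.refl x).zpow_zpow i k).mul_right (hC.zpow_zpow i l)).mul_left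
      (((hC.symm).zpow_zpow j k).mul_right ((Commute.refl z).zpow_zpow j l))).eq
  · intro a ha
    obtain ⟨i, j, rfl⟩ := h2 a ha
    rw [(hC.zpow_zpow i j).mul_pow, ← zpow_natCast, ← zpow_natCast, ← zpow_mul, ← zpow_mul,
      mul_comm i, mul_comm j, zpow_mul, zpow_mul, zpow_natCast, zpow_natCast, hx2, hz2, one_zpow,
      one_zpow, one_mul]
  · rw [hinf, card_bot, mul_one, Nat.card_zpowers, Nat.card_zpowers, hx, hz] at hcard
    exact hcard

/-- the functor value depends on the conjugation class of the pair -/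
theorem localPart_conj (x f g : G) :
    (localPart f g).map (MulAut.conj x).toMonoidHom = localPart (MulAut.conj x f) (MulAut.conj x g) := by
  rw [localPart, localPart, Subgroup.map_sup, map_commutator,
    Subgroup.map_inf _ _ _ (MulAut.conj x).injective, centralizerPPrimeCore_map_equiv,
    centralizerPPrimeCore_map_equiv, MonoidHom.map_zpowers]
  rfl

namespace Ctx

variable {S : Sylow 2 G} {S₁ S₂ : Subgroup G} (c : Ctx S S₁ S₂)
include c

theorem exists_central_involution (hne : S₁ ≠ ⊥) :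
    ∃ z ∈ S₁, orderOf z = 2 ∧ ∀ x ∈ S₁, x * z = z * x := by
  haveI : Fact (Nat.Prime 2) := ⟨Nat.prime_two⟩
  have hp : IsPGroup 2 S₁ := S.isPGroup'.to_le c.sc₁.1
  haveI : Nontrivial S₁ := nontrivial_iff_ne_bot S₁ |>.mpr hne
  haveI := hp.center_nontrivial
  obtain ⟨i, hi⟩ := IsPGroup.iff_card.mp (hp.to_subgroup (center S₁))
  have h2 : 2 ∣ Nat.card (center S₁) := by
    rcases i with _ | i
    · exact absurd hi (by have := Finite.one_lt_card (α := center S₁); omega)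
    · exact hi ▸ dvd_pow_self 2 (Nat.succ_ne_zero i)
  obtain ⟨z, hz⟩ := exists_prime_orderOf_dvd_card' 2 h2
  refine ⟨((z : S₁) : G), (z : S₁).2, by rw [orderOf_coe, orderOf_coe, hz], fun x hx => ?_⟩
  exact congrArg Subtype.val (mem_center_iff.mp z.2 ⟨x, hx⟩)

theorem exists_other {z : G} (hz : z ∈ S₁) (hz2 : orderOf z = 2) :
    ∃ x ∈ S₁, orderOf x = 2 ∧ x ≠ z := by
  by_contra hcon
  push Not at hcon
  have hiso : Cfsg.IsIsolatedInvolution z := by
    refine ⟨hz2, fun g hc => Cfsg.Lib.InvolCalc.isolated_of_unique S hz2 (fun h hh => ?_) hc⟩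
    exact hcon _ (c.sc₁.2 z hz h hh) (orderOf_conj_two h hz2)
  refine c.centralizer_ne_top (isIn_self hz) (fun h => by rw [h, orderOf_one] at hz2; omega) ?_
  rw [eq_top_iff]
  intro g _
  have h1 := Cfsg.Lib.ZStarApps.zstarProp hiso g
  rw [c.core, mem_bot, mul_inv_eq_one, mul_inv_eq_iff_eq_mul] at h1
  exact mem_centralizer_singleton_iff.mpr h1.symm

theorem fours {A B : Subgroup G} (hA : A ≤ S₁) (hB : B ≤ S₂)
    (eA : Cfsg.IsElementaryAbelian 2 A) (eB : Cfsg.IsElementaryAbelian 2 B)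
    (cA : Nat.card A = 4) (cB : Nat.card B = 4) : Fours S₁ S₂ A B :=
  ⟨eA, eB, cA, cB, fun _ h => isIn_self (hA h), fun _ h => isIn_self (hB h),
    fun _ hx _ hy => c.comm _ (hA hx) _ (hB hy)⟩

/-- two first four-groups with a common involution give the same completion -/
theorem sig_eq_of_common {A A' B : Subgroup G} (q : Fours S₁ S₂ A B) (q' : Fours S₁ S₂ A' B)
    {f : G} (hf : f ∈ A) (hf' : f ∈ A') (hf1 : f ≠ 1) : sig A B = sig A' B := by
  rw [(q.complete c).2.1, (q'.complete c).2.1, sig, sig]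
  refine iSup_congr fun g => ?_
  rw [q.symm.part_eq_localPart c.symm g.2.1 hf hf1,
    q'.symm.part_eq_localPart c.symm g.2.1 hf' hf1]

/-- all pairs of four-groups inside `S₁`, `S₂` give the same completion -/
theorem sig_eq {A B A' : Subgroup G} (hA : A ≤ S₁) (hA' : A' ≤ S₁) (hB : B ≤ S₂)
    (eA : Cfsg.IsElementaryAbelian 2 A) (eA' : Cfsg.IsElementaryAbelian 2 A')
    (eB : Cfsg.IsElementaryAbelian 2 B) (cA : Nat.card A = 4) (cA' : Nat.card A' = 4)
    (cB : Nat.card B = 4) : sig A B = sig A' B := by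
  have hne : S₁ ≠ ⊥ := fun h => by
    have := Subgroup.card_dvd_of_le (h ▸ hA)
    rw [cA, card_bot] at this
    omega
  obtain ⟨z, hz, hz2, hzc⟩ := c.exists_central_involution hne
  have key : ∀ T : Subgroup G, T ≤ S₁ → Cfsg.IsElementaryAbelian 2 T → Nat.card T = 4 →
      ∃ T' : Subgroup G, T' ≤ S₁ ∧ Cfsg.IsElementaryAbelian 2 T' ∧ Nat.card T' = 4 ∧ z ∈ T' ∧
        ∃ x ∈ T, x ∈ T' ∧ x ≠ 1 := by
    intro T hT eT cT
    obtain ⟨x, hx, hx1⟩ := exists_ne_one_of_card_four cT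
    by_cases hzT : z ∈ T
    · exact ⟨T, hT, eT, cT, hzT, x, hx, hx, hx1⟩
    · obtain ⟨e, hc⟩ := exists_four (orderOf_eq_prime (eT.2 x hx) hx1) hz2 (hzc x (hT hx))
        (fun h => hzT (h ▸ hx))
      exact ⟨_, sup_le (zpowers_le.mpr (hT hx)) (zpowers_le.mpr hz), e, hc,
        mem_sup_right (mem_zpowers z), x, hx, mem_sup_left (mem_zpowers x), hx1⟩
  have hz1 : z ≠ 1 := fun h => by rw [h, orderOf_one] at hz2; omega
  obtain ⟨T, hT, eT, cT, hzT, x, hx, hxT, hx1⟩ := key A hA eA cA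
  obtain ⟨T', hT', eT', cT', hzT', x', hx', hxT', hx1'⟩ := key A' hA' eA' cA'
  calc sig A B = sig T B :=
        c.sig_eq_of_common (c.fours hA hB eA eB cA cB) (c.fours hT hB eT eB cT cB) hx hxT hx1
    _ = sig T' B :=
        c.sig_eq_of_common (c.fours hT hB eT eB cT cB) (c.fours hT' hB eT' eB cT' cB) hzT hzT' hz1
    _ = sig A' B :=
        (c.sig_eq_of_common (c.fours hA' hB eA' eB cA' cB) (c.fours hT' hB eT' eB cT' cB)
          hx' hxT' hx1').symm

end Ctx

/-- The common completion. -/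
structure Completion (S₁ S₂ W : Subgroup G) : Prop where
  odd : Odd (Nat.card W)
  eq : ∀ A B : Subgroup G, A ≤ S₁ → B ≤ S₂ → Cfsg.IsElementaryAbelian 2 A →
    Cfsg.IsElementaryAbelian 2 B → Nat.card A = 4 → Nat.card B = 4 → sig A B = W

namespace Ctx

variable {S : Sylow 2 G} {S₁ S₂ : Subgroup G} (c : Ctx S S₁ S₂)
include c

theorem exists_four_containing {f : G} (hf : f ∈ S₁) (hf2 : orderOf f = 2) :
    ∃ A : Subgroup G, A ≤ S₁ ∧ Cfsg.IsElementaryAbelian 2 A ∧ Nat.card A = 4 ∧ f ∈ A := by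
  have hne : S₁ ≠ ⊥ := fun h => by
    rw [h, mem_bot] at hf; rw [hf, orderOf_one] at hf2; omega
  obtain ⟨z, hz, hz2, hzc⟩ := c.exists_central_involution hne
  obtain ⟨x, hx, hx2, hxz⟩ : ∃ x ∈ S₁, orderOf x = 2 ∧ x ≠ z := c.exists_other hz hz2
  by_cases hfz : f = z
  · obtain ⟨e, hc⟩ := exists_four hx2 hz2 (hzc x hx) hxz
    refine ⟨_, sup_le (zpowers_le.mpr hx) (zpowers_le.mpr hz), e, hc, ?_⟩
    rw [hfz]
    exact mem_sup_right (mem_zpowers z)
  · obtain ⟨e, hc⟩ := exists_four hf2 hz2 (hzc f hf) hfz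
    exact ⟨_, sup_le (zpowers_le.mpr hf) (zpowers_le.mpr hz), e, hc,
      mem_sup_left (mem_zpowers f)⟩

theorem exists_completion {a b : G} (ha : a ∈ S₁) (ha2 : orderOf a = 2) (hb : b ∈ S₂)
    (hb2 : orderOf b = 2) : ∃ W : Subgroup G, Completion S₁ S₂ W := by
  obtain ⟨A₀, hA₀, eA₀, cA₀, -⟩ := c.exists_four_containing ha ha2
  obtain ⟨B₀, hB₀, eB₀, cB₀, -⟩ := c.symm.exists_four_containing hb hb2
  refine ⟨sig A₀ B₀, ((c.fours hA₀ hB₀ eA₀ eB₀ cA₀ cB₀).complete c).1,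
    fun A B hA hB eA eB cA cB => ?_⟩
  rw [c.sig_eq hA hA₀ hB eA eA₀ eB cA cA₀ cB, ((c.fours hA₀ hB eA₀ eB cA₀ cB).complete c).2.1,
    c.symm.sig_eq hB hB₀ hA₀ eB eB₀ eA₀ cB cB₀ cA₀,
    ← ((c.fours hA₀ hB₀ eA₀ eB₀ cA₀ cB₀).complete c).2.1]

variable {W : Subgroup G}

theorem mem_normalizer_sig {A B : Subgroup G} (q : Fours S₁ S₂ A B) (x : G)
    {g₀ : G} (hg : g₀ ∈ B) (hg1 : g₀ ≠ 1) (q' : Fours S₁ S₂ (A.map (MulAut.conj x).toMonoidHom)
      (B.map (MulAut.conj x).toMonoidHom)) :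
    (sig A B).map (MulAut.conj x).toMonoidHom =
      sig (A.map (MulAut.conj x).toMonoidHom) (B.map (MulAut.conj x).toMonoidHom) := by
  rw [sig, sig, Subgroup.map_iSup]
  refine le_antisymm (iSup_le fun f => ?_) (iSup_le fun f => ?_)
  · rw [q.part_eq_localPart c f.2.1 hg hg1, localPart_conj]
    show localPart ((MulAut.conj x) f.1) ((MulAut.conj x) g₀) ≤ _
    erw [
      ← q'.part_eq_localPart c (mem_map_of_mem _ f.2.1) (mem_map_of_mem _ hg)
        (fun h => hg1 ((MulAut.conj x).injective (h.trans (map_one _).symm)))]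
    exact le_iSup (fun f : {f : G // f ∈ A.map (MulAut.conj x).toMonoidHom ∧ f ≠ 1} =>
      part (B.map (MulAut.conj x).toMonoidHom) f.1) ⟨MulAut.conj x f.1, mem_map_of_mem _ f.2.1,
        fun h => f.2.2 ((MulAut.conj x).injective (h.trans (map_one _).symm))⟩
  · obtain ⟨f', hf', hff'⟩ := f.2.1
    refine le_trans (le_of_eq ?_) (le_iSup _ ⟨f', hf', fun h => f.2.2 (by rw [← hff', h, map_one])⟩)
    rw [q'.part_eq_localPart c f.2.1 (mem_map_of_mem _ hg)
        (fun h => hg1 ((MulAut.conj x).injective (h.trans (map_one _).symm))),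
      q.part_eq_localPart c hf' hg hg1, localPart_conj, ← hff']
    rfl

theorem sylow_le_normalizer (hW : Completion S₁ S₂ W) {a b : G} (ha : a ∈ S₁)
    (ha2 : orderOf a = 2) (hb : b ∈ S₂) (hb2 : orderOf b = 2) :
    (S : Subgroup G) ≤ normalizer (W : Set G) := by
  obtain ⟨A, hA, eA, cA, -⟩ := c.exists_four_containing ha ha2
  obtain ⟨B, hB, eB, cB, -⟩ := c.symm.exists_four_containing hb hb2
  obtain ⟨g₀, hg, hg1⟩ := exists_ne_one_of_card_four cB
  intro s hs
  have hm : ∀ (T : Subgroup G) (T' : Subgroup G), Cfsg.IsStronglyClosed T' (S : Subgroup G) →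
      T ≤ T' → T.map (MulAut.conj s).toMonoidHom ≤ T' := by
    rintro T T' hT' hT _ ⟨y, hy, rfl⟩
    exact hT'.2 y (hT hy) s (mul_mem (mul_mem hs (hT'.1 (hT hy))) (inv_mem hs))
  have eA' := isElementaryAbelian_map eA (MulAut.conj s).toMonoidHom
  have eB' := isElementaryAbelian_map eB (MulAut.conj s).toMonoidHom
  have cA' : Nat.card (A.map (MulAut.conj s).toMonoidHom) = 4 := by
    rw [Subgroup.card_map_of_injective (MulAut.conj s).injective, cA]
  have cB' : Nat.card (B.map (MulAut.conj s).toMonoidHom) = 4 := by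
    rw [Subgroup.card_map_of_injective (MulAut.conj s).injective, cB]
  have h := c.mem_normalizer_sig (c.fours hA hB eA eB cA cB) s hg hg1
    (c.fours (hm A S₁ c.sc₁ hA) (hm B S₂ c.sc₂ hB) eA' eB' cA' cB')
  rw [hW.eq A B hA hB eA eB cA cB,
    hW.eq _ _ (hm A S₁ c.sc₁ hA) (hm B S₂ c.sc₂ hB) eA' eB' cA' cB'] at h
  exact Cfsg.Lib.ZStarApps.mem_normalizer_of_maps fun y hy => h.le (mem_map_of_mem _ hy)

theorem core_le_normalizer (hW : Completion S₁ S₂ W) {f b : G} (hf : f ∈ S₁)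
    (hf2 : orderOf f = 2) (hb : b ∈ S₂) (hb2 : orderOf b = 2) :
    centralizerPPrimeCore 2 f ≤ normalizer (W : Set G) := by
  obtain ⟨A, hA, eA, cA, hfA⟩ := c.exists_four_containing hf hf2
  obtain ⟨B, hB, eB, cB, -⟩ := c.symm.exists_four_containing hb hb2
  have hf1 : f ≠ 1 := fun h => by rw [h, orderOf_one] at hf2; omega
  set q := c.fours hA hB eA eB cA cB
  obtain ⟨hodd, heq, hle⟩ := q.complete c
  have hWeq := hW.eq A B hA hB eA eB cA cB
  haveI := eB.1
  have hBn : B ≤ normalizer (centralizerPPrimeCore 2 f : Set G) :=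
    (le_sup_right.trans (q.le_centralizer_singleton hfA)).trans
      (centralizer_le_normalizer_centralizerPPrimeCore f)
  have hcop : (Nat.card B).Coprime (Nat.card (centralizerPPrimeCore 2 f)) := by
    rw [cB, show (4 : ℕ) = 2 ^ 2 from rfl]
    exact Nat.Coprime.pow_left 2 (centralizerPPrimeCore_card_coprime (p := 2) f).symm
  conv_lhs => rw [← Cfsg.Lib.Coprime.commutator_sup_centralizer hBn hcop
    (Or.inl (Group.isSolvable_of_comm fun a b => mul_comm' a b))]
  refine sup_le ((le_sup_left.trans (hle f hfA hf1)).trans (hWeq ▸ le_normalizer)) ?_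
  rintro x ⟨hxJ, hxB⟩
  have hxf : MulAut.conj x f = f := by
    have h := mem_centralizer_singleton_iff.mp (centralizerPPrimeCore_le_centralizer f hxJ)
    show x * f * x⁻¹ = f
    rw [h, mul_inv_cancel_right]
  have hfix : W.map (MulAut.conj x).toMonoidHom = W := by
    rw [← hWeq, heq, sig, Subgroup.map_iSup]
    refine iSup_congr fun g => ?_
    have hxg : MulAut.conj x g.1 = g.1 := by
      show x * g.1 * x⁻¹ = g.1
      rw [← mem_centralizer_iff.mp hxB g.1 g.2.1, mul_inv_cancel_right]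
    rw [q.symm.part_eq_localPart c.symm g.2.1 hfA hf1, localPart_conj, hxg, hxf]
  exact Cfsg.Lib.ZStarApps.mem_normalizer_of_maps fun y hy => hfix.le (mem_map_of_mem _ hy)

/-- conjugates of `S₁` in the normalizer -/
theorem core_le_of_mem_normalizer (hW : Completion S₁ S₂ W)
    (hSM : (S : Subgroup G) ≤ normalizer (W : Set G)) {f b : G} (hf : IsIn S₁ f)
    (hfM : f ∈ normalizer (W : Set G)) (hf2 : orderOf f = 2) (hb : b ∈ S₂) (hb2 : orderOf b = 2) :
    centralizerPPrimeCore 2 f ≤ normalizer (W : Set G) := by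
  obtain ⟨m, hm, hmS⟩ := Cfsg.Lib.ZStarApps.exists_conj_mem_sylow S hSM
    (c.pgroup hf) (zpowers_le.mpr hfM)
  have h1 := c.mem_of_isIn hf (hmS f (mem_zpowers f))
  have h2 := c.core_le_normalizer hW h1 (orderOf_conj_two m hf2) hb hb2
  have h3 := centralizerPPrimeCore_map_equiv (p := 2) (MulAut.conj m) f
  intro x hx
  have h4 : m * x * m⁻¹ ∈ normalizer (W : Set G) :=
    h2 (h3.le (mem_map_of_mem _ hx))
  have := mul_mem (mul_mem (inv_mem hm) h4) hm
  simpa [mul_assoc] using this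

/-- inverted elements of `O(C(f h))` fixed by an involution lie in the core of its centralizer -/
theorem piece_mem_core {e f h z : G} (heC : centralizer ({e} : Set G) ≠ ⊤) (hf : IsIn S₁ f)
    (hh : IsIn S₂ h) (hef : f * e = e * f) (heh : h * e = e * h) (hez : z * e = e * z)
    (hodd : Odd (orderOf z)) (hfz : f * z * f⁻¹ = z⁻¹) (hhz : h * z * h⁻¹ = z⁻¹)
    (hf2 : orderOf f = 2) (hh2 : orderOf h = 2) : z ∈ centralizerPPrimeCore 2 e := by
  set H := centralizer ({e} : Set G)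
  have hsep := c.sep H heC
  have hzH : z ∈ H := mem_centralizer_singleton_iff.mpr hez
  have key : ∀ (Si : Subgroup G) (x : G), IsIn Si x → x * e = e * x → orderOf x = 2 →
      x * z * x⁻¹ = z⁻¹ → z * z ∈ clos Si H := by
    intro Si x hx hxe hx2 hxz
    have hxH : x ∈ H := mem_centralizer_singleton_iff.mpr hxe
    have h1 : z * z = (z * x * z⁻¹) * x := by
      have hzinv : x * z⁻¹ * x⁻¹ = z := by
        rw [show x * z⁻¹ * x⁻¹ = (x * z * x⁻¹)⁻¹ by group, hxz, inv_inv]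
      conv_lhs => arg 2; rw [← hzinv]
      rw [inv_of_two hx2]; group
    rw [h1]
    exact mul_mem (mem_clos (H.mul_mem (H.mul_mem hzH hxH) (H.inv_mem hzH)) (isIn_conj hx z))
      (mem_clos hxH hx)
  have h2 : z * z ∈ coreOf H := mem_coreOf_of_mem_both hsep (H.mul_mem hzH hzH)
    (by
      rw [← pow_two]
      exact (Nat.coprime_two_right.mpr hodd).coprime_dvd_left (orderOf_pow_dvd 2))
    (key S₁ f hf hef hf2 hfz) (key S₂ h hh heh hh2 hhz)
  exact zpowers_le.mpr h2 (mem_zpowers_mul_self hodd)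

/-- the dihedral configuration -/
theorem pieces (hW : Completion S₁ S₂ W) (hSM : (S : Subgroup G) ≤ normalizer (W : Set G))
    {f h b : G} (hf : f ∈ S₁) (hf2 : orderOf f = 2) (hh : IsIn S₂ h) (hh2 : orderOf h = 2)
    (hb : b ∈ S₂) (hb2 : orderOf b = 2) :
    ∃ w h' y v e₁ e₂ : G, h = w⁻¹ * h' * w ∧ w = y * v * y ∧ IsIn S₂ h' ∧ orderOf h' = 2 ∧
      f * h' = h' * f ∧ f * w * f⁻¹ = w⁻¹ ∧ h' * w * h'⁻¹ = w⁻¹ ∧ Odd (orderOf w) ∧
      (∀ e z, (e = e₁ ∧ z = v) ∨ (e = e₂ ∧ z = y) →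
        IsIn S₁ e ∧ orderOf e = 2 ∧ e * h' = h' * e ∧ z ∈ centralizerPPrimeCore 2 e ∧
        centralizerPPrimeCore 2 e ≤ normalizer (W : Set G) ∧
        h' * z * h'⁻¹ = z⁻¹) := by
  have hfI : IsIn S₁ f := isIn_self hf
  have hf1 : f ≠ 1 := fun h => by rw [h, orderOf_one] at hf2; omega
  obtain ⟨w, hwz, hwodd, hfw, hhw, hcomm⟩ := exists_commuting_conj hf2 hh2
    fun P g hP hfP hgP => c.commute_of_pgroup hfI (isIn_conj hh g) hP hfP hgP
  set h' := w * h * w⁻¹ with hh'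
  have hh'I : IsIn S₂ h' := isIn_conj hh w
  have hh'2 : orderOf h' = 2 := orderOf_conj_two w hh2
  obtain ⟨cc, hcc⟩ : ∃ cc, cc = f * h' := ⟨_, rfl⟩
  have hf22 : f * f = 1 := by rw [← pow_two, ← hf2, pow_orderOf_eq_one]
  have hccC : centralizer ({cc} : Set G) ≠ ⊤ := hcc ▸ c.mixed_centralizer_ne_top hfI hh'I hf2
    (by rw [← hh'2, pow_orderOf_eq_one]) hcomm
  set Hc := centralizer ({cc} : Set G) with hHc
  have hwc : w * cc = cc * w := by
    have h1 : f * (h' * w * h'⁻¹) * f⁻¹ = w := by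
      rw [hhw, show f * w⁻¹ * f⁻¹ = (f * w * f⁻¹)⁻¹ by group, hfw, inv_inv]
    calc w * cc = f * (h' * w * h'⁻¹) * f⁻¹ * (f * h') := by rw [h1, hcc]
      _ = cc * w := by rw [hcc]; group
  have hwH : w ∈ Hc := mem_centralizer_singleton_iff.mpr hwc
  have hfH : f ∈ Hc := mem_centralizer_singleton_iff.mpr (by
    rw [hcc]; calc f * (f * h') = f * (h' * f) := by rw [hcomm]
      _ = f * h' * f := by group)
  have hh'H : h' ∈ Hc := mem_centralizer_singleton_iff.mpr (by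
    rw [hcc]; calc h' * (f * h') = (h' * f) * h' := by group
      _ = f * h' * h' := by rw [hcomm])
  have hhH : h ∈ Hc := by
    rw [show h = w⁻¹ * h' * w by rw [hh']; group]
    exact Hc.mul_mem (Hc.mul_mem (Hc.inv_mem hwH) hh'H) hwH
  have hwR : w ∈ centralizerPPrimeCore 2 cc := by
    have h1 := (c.sep Hc hccC).comm_mem hfH hfI hhH hh
    exact (zpowers_le.mpr h1) hwz
  -- a four-group at `f` adjusted to commute with `h'`
  obtain ⟨A, hA, eA, cA, hfA⟩ := c.exists_four_containing hf hf2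
  haveI := eA.1
  obtain ⟨a, haA, hane⟩ : ∃ a ∈ A, a ≠ 1 ∧ a ≠ f := by
    by_contra hcon
    push Not at hcon
    have : A ≤ zpowers f := fun x hx => by
      by_cases hx1 : x = 1
      · rw [hx1]; exact one_mem _
      · rw [hcon x hx hx1]; exact mem_zpowers f
    have h4 := Subgroup.card_dvd_of_le this
    rw [cA, Nat.card_zpowers, hf2] at h4
    omega
  have haf : a * f = f * a := congrArg Subtype.val (mul_comm' (⟨a, haA⟩ : A) ⟨f, hfA⟩)
  have ha2 : orderOf a = 2 := orderOf_eq_prime (eA.2 a haA) hane.1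
  obtain ⟨u, huz, huodd, -, -, hucomm⟩ := exists_commuting_conj hh'2 ha2
    fun P g hP hhP hgP => (c.commute_of_pgroup (isIn_conj (isIn_self (hA haA)) g) hh'I hP hgP hhP).symm
  set Hf := centralizer ({f} : Set G) with hHf
  have hfC : Hf ≠ ⊤ := c.centralizer_ne_top hfI hf1
  have huJ : u ∈ centralizerPPrimeCore 2 f := by
    refine zpowers_le.mpr ?_ huz
    exact (c.sep Hf hfC).symm.comm_mem (mem_centralizer_singleton_iff.mpr hcomm.symm) hh'I
      (mem_centralizer_singleton_iff.mpr haf) (isIn_self (hA haA))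
  have huf : u * f = f * u :=
    mem_centralizer_singleton_iff.mp (centralizerPPrimeCore_le_centralizer f huJ)
  have huM : u ∈ normalizer (W : Set G) := c.core_le_normalizer hW hf hf2 hb hb2 huJ
  set e₁ := u * a * u⁻¹ with he₁
  set e₂ := u * (f * a) * u⁻¹ with he₂
  have he₂' : e₂ = f * e₁ := by
    rw [he₂, he₁, show u * (f * a) * u⁻¹ = (u * f) * a * u⁻¹ by group, huf]; group
  have hfa2 : orderOf (f * a) = 2 := by
    refine orderOf_eq_prime (eA.2 _ (mul_mem hfA haA)) fun h1 => hane.2 ?_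
    rw [eq_inv_of_mul_eq_one_right h1, inv_of_two hf2]
  have he₁2 : orderOf e₁ = 2 := orderOf_conj_two u ha2
  have he₁f : e₁ * f = f * e₁ := by
    rw [he₁, show u * a * u⁻¹ * f = u * a * (u⁻¹ * f) by group,
      show u⁻¹ * f = f * u⁻¹ by rw [inv_mul_eq_iff_eq_mul, ← mul_assoc, huf, mul_inv_cancel_right],
      show u * a * (f * u⁻¹) = u * (a * f) * u⁻¹ by group, haf]
    rw [show u * (f * a) * u⁻¹ = (u * f) * a * u⁻¹ by group, huf]; group
  have he₁h : e₁ * h' = h' * e₁ := hucomm.symm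
  have he₁c : e₁ * cc = cc * e₁ := by
    rw [hcc, ← mul_assoc, he₁f, mul_assoc, he₁h, ← mul_assoc]
  set R := centralizerPPrimeCore 2 cc with hR
  have hRodd : Odd (Nat.card R) :=
    Nat.coprime_two_right.mp (centralizerPPrimeCore_card_coprime (p := 2) cc)
  obtain ⟨y, v, hy, hv, hwyv, hfy, hfv, hev, hey⟩ := inverted_decomp hRodd
    (centralizer_le_normalizer_centralizerPPrimeCore cc
      (mem_centralizer_singleton_iff.mpr he₁c))
    he₁f (by rw [← pow_two, ← he₁2, pow_orderOf_eq_one]) hwR hfw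
  have hRinv : ∀ z ∈ R, f * z * f⁻¹ = z⁻¹ → h' * z * h'⁻¹ = z⁻¹ := by
    intro z hz hfz
    have hzc : z * cc = cc * z :=
      mem_centralizer_singleton_iff.mp (centralizerPPrimeCore_le_centralizer cc hz)
    have h1 : h' = f * cc := by rw [hcc, ← mul_assoc, hf22, one_mul]
    rw [h1, show f * cc * z * (f * cc)⁻¹ = f * (cc * z * cc⁻¹) * f⁻¹ by group, ← hzc,
      mul_inv_cancel_right, hfz]
  refine ⟨w, h', y, v, e₁, e₂, by rw [hh']; group, hwyv, hh'I, hh'2, hcomm, hfw, hhw, hwodd, ?_⟩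
  have hu2 : ∀ x ∈ A, orderOf x = 2 → IsIn S₁ (u * x * u⁻¹) ∧ u * x * u⁻¹ ∈ normalizer (W : Set G) :=
    fun x hx _ => ⟨isIn_conj (isIn_self (hA hx)) u,
      mul_mem (mul_mem huM (hSM (c.sc₁.1 (hA hx)))) (inv_mem huM)⟩
  rintro e z (⟨rfl, rfl⟩ | ⟨rfl, rfl⟩)
  · obtain ⟨i1, i2⟩ := hu2 a haA ha2
    have hhz := hRinv _ hv hfv
    refine ⟨i1, he₁2, he₁h, ?_, c.core_le_of_mem_normalizer hW hSM i1 i2 he₁2 hb hb2, hhz⟩
    refine c.piece_mem_core (c.centralizer_ne_top i1 (fun h => by rw [h, orderOf_one] at he₁2; omega))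
      hfI hh'I he₁f.symm he₁h.symm ?_ (Odd.of_dvd_nat hRodd (Subgroup.orderOf_dvd_natCard _ hv))
      hfv hhz hf2 hh'2
    rw [← mul_inv_eq_iff_eq_mul.mp hev]
  · obtain ⟨i1, i2⟩ := hu2 _ (mul_mem hfA haA) hfa2
    have he₂2 : orderOf e₂ = 2 := orderOf_conj_two u hfa2
    have hhz := hRinv _ hy hfy
    have he₂h : e₂ * h' = h' * e₂ := by
      rw [he₂', mul_assoc, he₁h, ← mul_assoc, hcomm, mul_assoc]
    have he₂f : f * e₂ = e₂ * f := by
      rw [he₂', mul_assoc f e₁ f, he₁f]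
    refine ⟨i1, he₂2, he₂h, ?_, c.core_le_of_mem_normalizer hW hSM i1 i2 he₂2 hb hb2, hhz⟩
    refine c.piece_mem_core (c.centralizer_ne_top i1 (fun h => by rw [h, orderOf_one] at he₂2; omega))
      hfI hh'I he₂f he₂h.symm ?_ (Odd.of_dvd_nat hRodd (Subgroup.orderOf_dvd_natCard _ hy))
      hfy hhz hf2 hh'2
    rw [he₂']
    have : f * e₁ * z * (f * e₁)⁻¹ = z := by
      rw [show f * e₁ * z * (f * e₁)⁻¹ = f * (e₁ * z * e₁⁻¹) * f⁻¹ by group, hey,
        show f * z⁻¹ * f⁻¹ = (f * z * f⁻¹)⁻¹ by group, hfy, inv_inv]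
    rw [← mul_inv_eq_iff_eq_mul.mp this]

/-- a second kind involution maps a first kind element of the normalizer into the normalizer -/
theorem conj_mem_normalizer (hW : Completion S₁ S₂ W)
    (hSM : (S : Subgroup G) ≤ normalizer (W : Set G)) {f h b : G} (hf : IsIn S₁ f)
    (hfM : f ∈ normalizer (W : Set G)) (hf2 : orderOf f = 2) (hh : IsIn S₂ h) (hh2 : orderOf h = 2)
    (hb : b ∈ S₂) (hb2 : orderOf b = 2) : h * f * h⁻¹ ∈ normalizer (W : Set G) := by
  obtain ⟨m, hm, hmS⟩ := Cfsg.Lib.ZStarApps.exists_conj_mem_sylow S hSM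
    (c.pgroup hf) (zpowers_le.mpr hfM)
  have h1 := c.mem_of_isIn hf (hmS f (mem_zpowers f))
  obtain ⟨w, h', y, v, e₁, e₂, hhe, hwe, -, -, hfh', hfw, hhw, -, hp⟩ :=
    c.pieces hW hSM h1 (orderOf_conj_two m hf2) (isIn_conj hh m) (orderOf_conj_two m hh2) hb hb2
  have hv := hp e₁ v (Or.inl ⟨rfl, rfl⟩)
  have hy := hp e₂ y (Or.inr ⟨rfl, rfl⟩)
  have hwM : w ∈ normalizer (W : Set G) := by
    rw [hwe]
    exact mul_mem (mul_mem (hy.2.2.2.2.1 hy.2.2.2.1) (hv.2.2.2.2.1 hv.2.2.2.1))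
      (hy.2.2.2.2.1 hy.2.2.2.1)
  have hf'M : m * f * m⁻¹ ∈ normalizer (W : Set G) := mul_mem (mul_mem hm hfM) (inv_mem hm)
  set F := m * f * m⁻¹
  have hres : m * h * m⁻¹ * F * (m * h * m⁻¹)⁻¹ = w⁻¹ * w⁻¹ * F * w * w := by
    rw [hhe]
    calc w⁻¹ * h' * w * F * (w⁻¹ * h' * w)⁻¹
        = w⁻¹ * ((h' * w * h'⁻¹) * (h' * F * h'⁻¹) * (h' * w * h'⁻¹)⁻¹) * w := by group
      _ = _ := by rw [hhw, ← hfh', mul_inv_cancel_right]; group
  have : h * f * h⁻¹ = m⁻¹ * (m * h * m⁻¹ * F * (m * h * m⁻¹)⁻¹) * m := by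
    simp only [F]; group
  rw [this, hres]
  exact mul_mem (mul_mem (inv_mem hm)
    (mul_mem (mul_mem (mul_mem (mul_mem (inv_mem hwM) (inv_mem hwM)) hf'M) hwM) hwM)) hm

/-- a first kind involution whose class centralizes the completion commutes with all second kind
involutions -/
theorem commute_of_centralizes (hW : Completion S₁ S₂ W)
    (hSM : (S : Subgroup G) ≤ normalizer (W : Set G)) {a b h : G} (ha : a ∈ S₁)
    (ha2 : orderOf a = 2) (hb : b ∈ S₂) (hb2 : orderOf b = 2) (hh : IsIn S₂ h) (hh2 : orderOf h = 2)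
    (hcen : ∀ g : G, g * a * g⁻¹ ∈ centralizer (W : Set G)) : a * h = h * a := by
  obtain ⟨w, h', y, v, e₁, e₂, hhe, hwe, hh', hh'2, hah', haw, -, hwodd, hp⟩ :=
    c.pieces hW hSM ha ha2 hh hh2 hb hb2
  have key : ∀ e z, (e = e₁ ∧ z = v) ∨ (e = e₂ ∧ z = y) → a * z = z * a := by
    intro e z hez
    obtain ⟨he, he2, heh, hz, -, hhz⟩ := hp e z hez
    obtain ⟨g, hg⟩ := Cfsg.Lib.InvolCalc.exists_conj_le S
      (Cfsg.Lib.InvolCalc.isPGroup_pair he2 hh'2 heh)
    have k1 : g⁻¹ * e * g⁻¹⁻¹ ∈ S₁ := c.mem_of_isIn he (by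
      rw [inv_inv]; exact hg e (mem_sup_left (mem_zpowers e)))
    have k2 : g⁻¹ * h' * g⁻¹⁻¹ ∈ S₂ := c.symm.mem_of_isIn hh' (by
      rw [inv_inv]; exact hg h' (mem_sup_right (mem_zpowers h')))
    obtain ⟨A, hA, eA, cA, heA⟩ := c.exists_four_containing k1 (orderOf_conj_two _ he2)
    obtain ⟨B, hB, eB, cB, hhB⟩ := c.symm.exists_four_containing k2 (orderOf_conj_two _ hh'2)
    set z' := g⁻¹ * z * g⁻¹⁻¹ with hz'
    have hz'core : z' ∈ centralizerPPrimeCore 2 (g⁻¹ * e * g⁻¹⁻¹) :=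
      (centralizerPPrimeCore_map_equiv (p := 2) (MulAut.conj g⁻¹) e).le (mem_map_of_mem _ hz)
    have hz'odd : Odd (orderOf z') := Odd.of_dvd_nat
      (Nat.coprime_two_right.mp (centralizerPPrimeCore_card_coprime (p := 2) _))
      (Subgroup.orderOf_dvd_natCard _ hz'core)
    have hz'W : z' ∈ W := by
      have h1 : z' * z' ∈ part B (g⁻¹ * e * g⁻¹⁻¹) := by
        refine mem_sup_left ?_
        have h2 : z' * z' = ⁅z', g⁻¹ * h' * g⁻¹⁻¹⁆ := by
          rw [commutatorElement_def, hz',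
            show g⁻¹ * z * g⁻¹⁻¹ * (g⁻¹ * h' * g⁻¹⁻¹) * (g⁻¹ * z * g⁻¹⁻¹)⁻¹ * (g⁻¹ * h' * g⁻¹⁻¹)⁻¹
              = g⁻¹ * (z * (h' * z * h'⁻¹)⁻¹) * g⁻¹⁻¹ by group, hhz]
          group
        rw [h2]
        exact commutator_mem_commutator hz'core hhB
      have h3 : z' * z' ∈ W := by
        rw [← hW.eq A B hA hB eA eB cA cB]
        exact ((c.fours hA hB eA eB cA cB).complete c).2.2 _ heA
          (fun hh1 => by
            have := orderOf_conj_two g⁻¹ he2
            rw [hh1, orderOf_one] at this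
            omega) h1
      exact zpowers_le.mpr h3 (mem_zpowers_mul_self hz'odd)
    have h4 := mem_centralizer_iff.mp (hcen g⁻¹) z' hz'W
    calc a * z = g * ((g⁻¹ * a * g⁻¹⁻¹) * z') * g⁻¹ := by rw [hz']; group
      _ = g * (z' * (g⁻¹ * a * g⁻¹⁻¹)) * g⁻¹ := by rw [h4]
      _ = z * a := by rw [hz']; group
  have hay : a * y = y * a := key e₂ y (Or.inr ⟨rfl, rfl⟩)
  have hav : a * v = v * a := key e₁ v (Or.inl ⟨rfl, rfl⟩)
  have haw' : a * w = w * a := by
    rw [hwe]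
    exact (((show Commute a y from hay).mul_right hav).mul_right hay).eq
  have hw2 : w * w = 1 := by
    rw [haw', mul_inv_cancel_right] at haw
    exact (eq_inv_iff_mul_eq_one.mp haw)
  have hw1 : w = 1 := by
    have := mem_zpowers_mul_self hwodd
    rwa [hw2, zpowers_one_eq_bot, mem_bot] at this
  rw [hw1, inv_one, one_mul, mul_one] at hhe
  rw [hhe, hah']

end Ctx

end Cfsg.Lib.ProdFusion
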