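import Cfsg.Agent.TwoFusion.Product.Pairs

/-!
Involutions of the two kinds commute when the group has no normal 2-subgroups in either kind.
-/

set_option autoImplicit false
set_option linter.style.haveILetI false
set_option linter.unusedSectionVars false

namespace Cfsg.Lib.ProdFusion

open Subgroup
open Cfsg.Lib.Components
open Cfsg.Lib.CoreSep
open scoped commutatorElement

universe u

variable {G : Type u} [Group G] [Finite G]

theorem inv_of_two {x : G} (h : orderOf x = 2) : x⁻¹ = x := by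
  rw [inv_eq_iff_mul_eq_one, ← pow_two, ← h, pow_orderOf_eq_one]

theorem mem_zpowers_mul_self {z : G} (h : Odd (orderOf z)) : z ∈ zpowers (z * z) := by
  rw [← pow_two]
  exact mem_zpowers_pow_iff.mpr (Nat.coprime_two_right.mpr h).symm

theorem conj_zpow' (a x : G) (j : ℤ) : a * x ^ j * a⁻¹ = (a * x * a⁻¹) ^ j :=
  map_zpow (MulAut.conj a) x j

theorem orderOf_conj_two {x : G} (g : G) (h : orderOf x = 2) : orderOf (g * x * g⁻¹) = 2 := by
  rw [show g * x * g⁻¹ = MulAut.conj g x from rfl, MulEquiv.orderOf_eq, h]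

/-- Two involutions whose product generates, together with one of them, commuting 2-elements:
one of them moves by an inverted element of odd order to a commuting one. -/
theorem exists_commuting_conj {f h : G} (hf : orderOf f = 2) (hh : orderOf h = 2)
    (H : ∀ (P : Subgroup G) (g : G), IsPGroup 2 P → f ∈ P → g * h * g⁻¹ ∈ P →
      f * (g * h * g⁻¹) = g * h * g⁻¹ * f) :
    ∃ w : G, w ∈ zpowers ⁅f, h⁆ ∧ Odd (orderOf w) ∧ f * w * f⁻¹ = w⁻¹ ∧
      (w * h * w⁻¹) * w * (w * h * w⁻¹)⁻¹ = w⁻¹ ∧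
      f * (w * h * w⁻¹) = w * h * w⁻¹ * f := by
  have hfi := inv_of_two hf
  have hhi := inv_of_two hh
  set d := f * h with hd
  have hfd : f * d * f⁻¹ = d⁻¹ := by
    rw [hd, mul_inv_rev, hfi, hhi]
    calc f * (f * h) * f = (f * f) * h * f := by group
      _ = h * f := by rw [show f * f = 1 by rw [← pow_two, ← hf, pow_orderOf_eq_one], one_mul]
  have hhd : h * d * h⁻¹ = d⁻¹ := by
    rw [hd, mul_inv_rev, hfi, hhi]
    calc h * (f * h) * h = h * f * (h * h) := by group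
      _ = h * f := by rw [show h * h = 1 by rw [← pow_two, ← hh, pow_orderOf_eq_one], mul_one]
  obtain ⟨k, m, hm, hkm⟩ := Nat.exists_eq_two_pow_mul_odd (orderOf_pos d).ne'
  obtain ⟨r, hr⟩ := hm
  set j : ℤ := 2 ^ (k + 1) * ((r : ℤ) + 1) ^ (k + 2) with hj
  set w := d ^ j with hw
  have hfw : f * w * f⁻¹ = w⁻¹ := by rw [hw, conj_zpow', hfd, inv_zpow]
  have hhw : h * w * h⁻¹ = w⁻¹ := by rw [hw, conj_zpow', hhd, inv_zpow]
  have h2j : (m : ℤ) ∣ 2 * j - 1 := by
    have h := sub_dvd_pow_sub_pow ((m : ℤ) + 1) 1 (k + 2)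
    rw [one_pow, add_sub_cancel_right] at h
    have e1 : 2 * j = ((m : ℤ) + 1) ^ (k + 2) := by
      rw [hj, hr]; push_cast
      rw [show (2 : ℤ) * r + 1 + 1 = 2 * (r + 1) by ring, mul_pow]; ring
    rw [e1]; exact h
  have hmove : w * h * w⁻¹ = f * d ^ (1 - 2 * j) := by
    have h1 : h * w⁻¹ = w * h := by
      calc h * w⁻¹ = h * (h * w * h⁻¹) := by rw [hhw]
        _ = (h * h) * w * h⁻¹ := by group
        _ = w * h := by rw [show h * h = 1 by rw [← pow_two, ← hh, pow_orderOf_eq_one], one_mul, hhi]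
    have h2 : h = f * d := by
      rw [hd, ← mul_assoc, show f * f = 1 by rw [← pow_two, ← hf, pow_orderOf_eq_one], one_mul]
    have h3 : ∀ n : ℤ, d ^ n * f = f * d ^ (-n) := by
      intro n
      have h4 : f * d ^ (-n) * f⁻¹ = d ^ n := by
        rw [conj_zpow', hfd, inv_zpow, zpow_neg, inv_inv]
      rw [← h4]; group
    calc w * h * w⁻¹ = w * (h * w⁻¹) := mul_assoc _ _ _
      _ = d ^ j * d ^ j * (f * d) := by rw [h1, ← mul_assoc, ← h2]
      _ = d ^ (j + j) * f * d := by rw [zpow_add]; group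
      _ = f * (d ^ (-(j + j)) * d ^ (1 : ℤ)) := by rw [h3, zpow_one, mul_assoc]
      _ = f * d ^ (1 - 2 * j) := by rw [← zpow_add]; ring_nf
  set e := d ^ (1 - 2 * j) with he
  have he2 : e ^ 2 ^ k = 1 := by
    rw [← zpow_natCast, he, ← zpow_mul, ← orderOf_dvd_iff_zpow_eq_one, hkm]
    push_cast
    rw [mul_comm ((1 : ℤ) - 2 * j)]
    refine mul_dvd_mul_left _ ?_
    rw [← neg_sub]; exact dvd_neg.mpr h2j
  have hep : IsPGroup 2 (zpowers e) := by
    refine IsPGroup.iff_card.mpr ?_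
    rw [Nat.card_zpowers]
    obtain ⟨i, -, hi⟩ := (Nat.dvd_prime_pow Nat.prime_two).mp (orderOf_dvd_of_pow_eq_one he2)
    exact ⟨i, hi⟩
  have hfe : f * e * f⁻¹ = e⁻¹ := by rw [he, conj_zpow', hfd, inv_zpow]
  have hP : IsPGroup 2 (zpowers f ⊔ zpowers e : Subgroup G) := by
    refine (IsPGroup.of_card (n := 1) (by rw [Nat.card_zpowers, hf, pow_one]) :
      IsPGroup 2 (zpowers f)).to_sup_of_normal_right' hep (zpowers_le.mpr ?_)
    refine Cfsg.Lib.ZStarApps.mem_normalizer_of_maps fun x hx => ?_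
    obtain ⟨i, rfl⟩ := mem_zpowers_iff.mp hx
    rw [conj_zpow', hfe]
    exact zpow_mem (inv_mem (mem_zpowers e)) i
  refine ⟨w, ?_, ?_, hfw, ?_, ?_⟩
  · have hc : ⁅f, h⁆ = d ^ (2 : ℤ) := by
      rw [commutatorElement_def, hfi, hhi, hd, zpow_two]; simp only [mul_assoc]
    rw [hc, hw, hj, pow_succ' (2 : ℤ), mul_assoc, zpow_mul]
    exact zpow_mem (mem_zpowers _) _
  · refine Odd.of_dvd_nat (n := m) ⟨r, hr⟩ ?_
    refine orderOf_dvd_of_pow_eq_one ?_
    rw [← zpow_natCast, hw, ← zpow_mul, ← orderOf_dvd_iff_zpow_eq_one, hkm, hj]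
    push_cast
    refine mul_dvd_mul ?_ dvd_rfl
    exact Dvd.dvd.mul_right (pow_dvd_pow 2 (Nat.le_succ k)) _
  · rw [show (w * h * w⁻¹) * w * (w * h * w⁻¹)⁻¹ = w * (h * w * h⁻¹) * w⁻¹ by group, hhw]; group
  · refine H _ w hP (mem_sup_left (mem_zpowers f)) ?_
    rw [hmove]
    exact mul_mem (mem_sup_left (mem_zpowers f)) (mem_sup_right (mem_zpowers e))

theorem eq_of_mul_self_eq {x y : G} {n : ℕ} (hn : Odd n) (hx : x ^ n = 1) (hy : y ^ n = 1)
    (h : x * x = y * y) : x = y := by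
  obtain ⟨k, hk⟩ := hn
  calc x = (x * x) ^ (k + 1) := by rw [← pow_two, ← pow_mul, show 2 * (k + 1) = n + 1 by omega, pow_succ, hx, one_mul]
    _ = (y * y) ^ (k + 1) := by rw [h]
    _ = y := by rw [← pow_two, ← pow_mul, show 2 * (k + 1) = n + 1 by omega, pow_succ, hy, one_mul]

/-- An element inverted by `f` factors through the fixed points of a commuting involution. -/
theorem inverted_decomp {R : Subgroup G} (hodd : Odd (Nat.card R)) {e f w : G}
    (he : e ∈ normalizer (R : Set G)) (hef : e * f = f * e) (he2 : e * e = 1)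
    (hw : w ∈ R) (hfw : f * w * f⁻¹ = w⁻¹) :
    ∃ y v : G, y ∈ R ∧ v ∈ R ∧ w = y * v * y ∧ f * y * f⁻¹ = y⁻¹ ∧ f * v * f⁻¹ = v⁻¹ ∧
      e * v * e⁻¹ = v ∧ e * y * e⁻¹ = y⁻¹ := by
  set n := Nat.card R with hn
  have hp : ∀ x ∈ R, x ^ n = 1 := fun x hx => by
    have := pow_card_eq_one' (G := R) (x := ⟨x, hx⟩)
    exact congrArg Subtype.val this
  set r : G → G := fun x => x ^ ((n + 1) / 2) with hr
  have hrR : ∀ x ∈ R, r x ∈ R := fun x hx => pow_mem hx _
  have hrr : ∀ x ∈ R, r x * r x = x := fun x hx => by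
    obtain ⟨k, hk⟩ := hodd
    show x ^ ((n + 1) / 2) * x ^ ((n + 1) / 2) = x
    rw [← pow_add, show (n + 1) / 2 + (n + 1) / 2 = n + 1 by omega, pow_succ, hp x hx, one_mul]
  have hrc : ∀ a x : G, a * r x * a⁻¹ = r (a * x * a⁻¹) := fun a x => map_pow (MulAut.conj a) x _
  have hri : ∀ x : G, r x⁻¹ = (r x)⁻¹ := fun x => inv_pow x _
  set q := e * w * e⁻¹ with hqdef
  have hq : q ∈ R := (mem_normalizer_iff.mp he w).mp hw
  have hfq : f * q * f⁻¹ = q⁻¹ := by
    rw [hqdef, show f * (e * w * e⁻¹) * f⁻¹ = (f * e) * w * (f * e)⁻¹ by group, ← hef,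
      show e * f * w * (e * f)⁻¹ = e * (f * w * f⁻¹) * e⁻¹ by group, hfw]
    group
  set a := r q with hadef
  have ha : a ∈ R := hrR q hq
  have hfa : f * a * f⁻¹ = a⁻¹ := by rw [hadef, hrc, hfq, hri]
  set M := a * w * a with hM
  have hMR : M ∈ R := R.mul_mem (R.mul_mem ha hw) ha
  set b := r M with hbdef
  have hb : b ∈ R := hrR M hMR
  have hfb : f * b * f⁻¹ = b⁻¹ := by
    rw [hbdef, hrc, hM, show f * (a * w * a) * f⁻¹
      = (f * a * f⁻¹) * (f * w * f⁻¹) * (f * a * f⁻¹) by group, hfa, hfw, show a⁻¹ * w⁻¹ * a⁻¹ = (a * w * a)⁻¹ by group, hri]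
  set s := a⁻¹ * b * a⁻¹ with hsdef
  have hs : s ∈ R := R.mul_mem (R.mul_mem (R.inv_mem ha) hb) (R.inv_mem ha)
  have haq : a * a = q := hrr q hq
  have hsqs : s * q * s = w := by
    rw [hsdef, ← haq, show a⁻¹ * b * a⁻¹ * (a * a) * (a⁻¹ * b * a⁻¹) = a⁻¹ * (b * b) * a⁻¹ by group,
      hrr M hMR, hM]
    group
  have hfs : f * s * f⁻¹ = s⁻¹ := by
    rw [hsdef, show f * (a⁻¹ * b * a⁻¹) * f⁻¹
      = (f * a * f⁻¹)⁻¹ * (f * b * f⁻¹) * (f * a * f⁻¹)⁻¹ by group, hfa, hfb]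
    group
  have huniq : ∀ t ∈ R, t * q * t = w → t = s := fun t ht h => by
    have h1 : a * t * a = a * s * a := eq_of_mul_self_eq hodd
      (hp _ (R.mul_mem (R.mul_mem ha ht) ha)) (hp _ (R.mul_mem (R.mul_mem ha hs) ha)) (by
      calc a * t * a * (a * t * a) = a * (t * (a * a) * t) * a := by group
        _ = a * (s * (a * a) * s) * a := by rw [haq, h, hsqs]
        _ = _ := by group)
    exact mul_left_cancel (mul_right_cancel h1)
  have hes : e * s * e⁻¹ = s⁻¹ := by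
    have he' : e⁻¹ = e := inv_eq_of_mul_eq_one_right he2
    have h1 : e * s * e⁻¹ * w * (e * s * e⁻¹) = q := by
      have h2 : e * (s * q * s) * e⁻¹ = q := by rw [hsqs]
      rw [← h2, hqdef]
      simp only [he', mul_assoc]
    refine inv_eq_iff_eq_inv.mp (huniq _ (R.inv_mem ((mem_normalizer_iff.mp he s).mp hs)) ?_)
    rw [← h1]; group
  set y := r s with hy
  have hyR : y ∈ R := hrR s hs
  have hys : y * y = s := hrr s hs
  refine ⟨y, y⁻¹ * w * y⁻¹, hyR, R.mul_mem (R.mul_mem (R.inv_mem hyR) hw) (R.inv_mem hyR), by group,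
    by rw [hy, hrc, hfs, hri], ?_, ?_, by rw [hy, hrc, hes, hri]⟩
  · have : f * y * f⁻¹ = y⁻¹ := by rw [hy, hrc, hfs, hri]
    rw [show f * (y⁻¹ * w * y⁻¹) * f⁻¹
      = (f * y * f⁻¹)⁻¹ * (f * w * f⁻¹) * (f * y * f⁻¹)⁻¹ by group, this, hfw]
    group
  · have : e * y * e⁻¹ = y⁻¹ := by rw [hy, hrc, hes, hri]
    rw [show e * (y⁻¹ * w * y⁻¹) * e⁻¹
      = (e * y * e⁻¹)⁻¹ * (e * w * e⁻¹) * (e * y * e⁻¹)⁻¹ by group, this, ← hqdef, inv_inv]
    conv_rhs => rw [← hsqs, ← hys]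
    group

end Cfsg.Lib.ProdFusion
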