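import Cfsg.Agent.TwoFusion.Product.Closures
import Cfsg.Agent.S0205
import Cfsg.Agent.S0217
import Cfsg.Agent.OddChar.PF.OddOrder
import Cfsg.Agent.Coprime.Generation

/-!
Goldschmidt's signalizer functor for a pair of four-groups taken from two commuting strongly
closed 2-subgroups which meet trivially.
-/

set_option autoImplicit false
set_option linter.style.haveILetI false
set_option linter.unusedSectionVars false

namespace Cfsg.Lib.ProdFusion

open Subgroup
open Cfsg.Lib.Components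
open Cfsg.Lib.CoreSep
open scoped commutatorElement

universe u

variable {G : Type u} [Group G] [Finite G]

/-- The standing hypotheses. -/
structure Ctx (S : Sylow 2 G) (S₁ S₂ : Subgroup G) : Prop where
  sc₁ : Cfsg.IsStronglyClosed S₁ (S : Subgroup G)
  sc₂ : Cfsg.IsStronglyClosed S₂ (S : Subgroup G)
  comm : ∀ a ∈ S₁, ∀ b ∈ S₂, a * b = b * a
  disj : S₁ ⊓ S₂ = ⊥
  core : pPrimeCore 2 G = ⊥
  sep : ∀ H : Subgroup G, H ≠ ⊤ → Separated S₁ S₂ H
  nn₁ : ∀ x ∈ S₁, x ∈ center G → x = 1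
  nn₂ : ∀ x ∈ S₂, x ∈ center G → x = 1

theorem Ctx.symm {S : Sylow 2 G} {S₁ S₂ : Subgroup G} (c : Ctx S S₁ S₂) : Ctx S S₂ S₁ where
  sc₁ := c.sc₂
  sc₂ := c.sc₁
  comm := fun a ha b hb => (c.comm b hb a ha).symm
  disj := by rw [inf_comm]; exact c.disj
  core := c.core
  sep := fun H hH => (c.sep H hH).symm
  nn₁ := c.nn₂
  nn₂ := c.nn₁

namespace Ctx

variable {S : Sylow 2 G} {S₁ S₂ : Subgroup G} (c : Ctx S S₁ S₂)
include c

theorem mem_of_isIn {x g : G} (hx : IsIn S₁ x) (h : g * x * g⁻¹ ∈ (S : Subgroup G)) :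
    g * x * g⁻¹ ∈ S₁ := by
  obtain ⟨k, s, hs, rfl⟩ := hx
  rw [show g * (k * s * k⁻¹) * g⁻¹ = g * k * s * (g * k)⁻¹ by group] at h ⊢
  exact c.sc₁.2 s hs _ h

theorem pgroup {x : G} (hx : IsIn S₁ x) : IsPGroup 2 (zpowers x) := by
  obtain ⟨g, s, hs, rfl⟩ := hx
  have h1 : IsPGroup 2 (zpowers s) := S.isPGroup'.to_le (zpowers_le.mpr (c.sc₁.1 hs))
  have h2 : (zpowers s).map (MulAut.conj g).toMonoidHom = zpowers (g * s * g⁻¹) := by
    rw [MonoidHom.map_zpowers]; rfl
  rw [← h2]
  exact h1.map _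

theorem commute_of_pgroup {x y : G} (hx : IsIn S₁ x) (hy : IsIn S₂ y) {P : Subgroup G}
    (hP : IsPGroup 2 P) (hxP : x ∈ P) (hyP : y ∈ P) : x * y = y * x := by
  obtain ⟨g, hg⟩ := Cfsg.Lib.InvolCalc.exists_conj_le S hP
  have h1 : g⁻¹ * x * g⁻¹⁻¹ ∈ (S : Subgroup G) := by rw [inv_inv]; exact hg x hxP
  have h2 : g⁻¹ * y * g⁻¹⁻¹ ∈ (S : Subgroup G) := by rw [inv_inv]; exact hg y hyP
  have h3 := c.comm _ (c.mem_of_isIn hx h1) _ (c.symm.mem_of_isIn hy h2)
  refine mul_left_cancel (a := g⁻¹) (mul_right_cancel (b := g) ?_)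
  calc g⁻¹ * (x * y) * g = g⁻¹ * x * g⁻¹⁻¹ * (g⁻¹ * y * g⁻¹⁻¹) := by group
    _ = g⁻¹ * y * g⁻¹⁻¹ * (g⁻¹ * x * g⁻¹⁻¹) := h3
    _ = g⁻¹ * (y * x) * g := by group

theorem eq_one_of_isIn {x : G} (h1 : IsIn S₁ x) (h2 : IsIn S₂ x) : x = 1 := by
  obtain ⟨g, hg⟩ := Cfsg.Lib.InvolCalc.exists_conj_le S (c.pgroup h1)
  have h : g⁻¹ * x * g⁻¹⁻¹ ∈ (S : Subgroup G) := by rw [inv_inv]; exact hg x (mem_zpowers x)
  have h3 : g⁻¹ * x * g⁻¹⁻¹ ∈ S₁ ⊓ S₂ := ⟨c.mem_of_isIn h1 h, c.symm.mem_of_isIn h2 h⟩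
  rw [c.disj, mem_bot] at h3
  calc x = g * (g⁻¹ * x * g⁻¹⁻¹) * g⁻¹ := by group
    _ = 1 := by rw [h3]; group

theorem centralizer_ne_top {x : G} (hx : IsIn S₁ x) (hx1 : x ≠ 1) :
    centralizer ({x} : Set G) ≠ ⊤ := by
  intro h
  have hcen : x ∈ center G := mem_center_iff.mpr fun y =>
    mem_centralizer_singleton_iff.mp (h ▸ mem_top y)
  obtain ⟨g, s, hs, rfl⟩ := hx
  have hs1 : g * s * g⁻¹ = s := by
    have h1 := mem_center_iff.mp hcen g
    calc g * s * g⁻¹ = g⁻¹ * (g * (g * s * g⁻¹)) := by group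
      _ = g⁻¹ * ((g * s * g⁻¹) * g) := by rw [h1]
      _ = s := by group
  exact hx1 (by rw [hs1] at hcen ⊢; exact c.nn₁ s hs hcen)

theorem mixed_centralizer_ne_top {s t : G} (hs : IsIn S₁ s) (ht : IsIn S₂ t) (hs2 : orderOf s = 2)
    (ht2 : t ^ 2 = 1) (hst : s * t = t * s) : centralizer ({s * t} : Set G) ≠ ⊤ := by
  intro h
  have hcen : ∀ y, y * (s * t) = s * t * y := fun y =>
    mem_centralizer_singleton_iff.mp (h ▸ mem_top y)
  have hiso : Cfsg.IsIsolatedInvolution s := by
    refine ⟨hs2, fun g hc => ?_⟩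
    set s' := g * s * g⁻¹ with hs'
    have hs'2 : orderOf s' = 2 := by
      rw [hs', show g * s * g⁻¹ = MulAut.conj g s from rfl, MulEquiv.orderOf_eq, hs2]
    have hs't : Commute s' t := by
      have h1 : Commute s' (s * t) := (hcen s')
      have h2 : Commute s' (s⁻¹ * (s * t)) := (hc.symm.inv_right).mul_right h1
      rwa [inv_mul_cancel_left] at h2
    have hV : IsPGroup 2 (zpowers t ⊔ (zpowers s ⊔ zpowers s') : Subgroup G) := by
      refine (isPGroup_zpowers_of_pow_eq_one ht2).to_sup_of_normal_right'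
        (Cfsg.Lib.InvolCalc.isPGroup_pair hs2 hs'2 hc) (le_trans ?_ (centralizer_le_normalizer _))
      rw [zpowers_le, mem_centralizer_iff]
      intro y hy
      have hle : zpowers s ⊔ zpowers s' ≤ centralizer ({t} : Set G) :=
        sup_le (zpowers_le.mpr (mem_centralizer_singleton_iff.mpr hst))
          (zpowers_le.mpr (mem_centralizer_singleton_iff.mpr hs't.eq))
      exact mem_centralizer_singleton_iff.mp (hle hy)
    obtain ⟨a, ha⟩ := Cfsg.Lib.InvolCalc.exists_conj_le S hV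
    have k : ∀ y ∈ (zpowers t ⊔ (zpowers s ⊔ zpowers s') : Subgroup G),
        a⁻¹ * y * a⁻¹⁻¹ ∈ (S : Subgroup G) := fun y hy => by rw [inv_inv]; exact ha y hy
    have ms : s ∈ (zpowers t ⊔ (zpowers s ⊔ zpowers s') : Subgroup G) :=
      mem_sup_right (mem_sup_left (mem_zpowers s))
    have ms' : s' ∈ (zpowers t ⊔ (zpowers s ⊔ zpowers s') : Subgroup G) :=
      mem_sup_right (mem_sup_right (mem_zpowers s'))
    have mt : t ∈ (zpowers t ⊔ (zpowers s ⊔ zpowers s') : Subgroup G) :=
      mem_sup_left (mem_zpowers t)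
    set t' := g * t * g⁻¹ with ht'
    have hprod : t' = s'⁻¹ * (s * t) := by
      rw [eq_inv_mul_iff_mul_eq, hs', ht']
      calc g * s * g⁻¹ * (g * t * g⁻¹) = g * (s * t) * g⁻¹ := by group
        _ = s * t := by rw [hcen g, mul_inv_cancel_right]
    have mt' : t' ∈ (zpowers t ⊔ (zpowers s ⊔ zpowers s') : Subgroup G) := by
      rw [hprod]; exact Subgroup.mul_mem _ (Subgroup.inv_mem _ ms') (Subgroup.mul_mem _ ms mt)
    have e1 := c.mem_of_isIn hs (k _ ms)
    have e1' := c.mem_of_isIn (isIn_conj hs g) (k _ ms')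
    have e2 := c.symm.mem_of_isIn ht (k _ mt)
    have e2' := c.symm.mem_of_isIn (isIn_conj ht g) (k _ mt')
    have e : (a⁻¹ * s' * a⁻¹⁻¹)⁻¹ * (a⁻¹ * s * a⁻¹⁻¹) ∈ S₁ ⊓ S₂ := by
      refine ⟨Subgroup.mul_mem _ (Subgroup.inv_mem _ e1') e1, ?_⟩
      have he : (a⁻¹ * s' * a⁻¹⁻¹)⁻¹ * (a⁻¹ * s * a⁻¹⁻¹)
          = (a⁻¹ * t' * a⁻¹⁻¹) * (a⁻¹ * t * a⁻¹⁻¹)⁻¹ := by rw [hprod]; group
      rw [he]
      exact Subgroup.mul_mem _ e2' (Subgroup.inv_mem _ e2)
    rw [c.disj, mem_bot] at e
    calc s' = a * (a⁻¹ * s' * a⁻¹⁻¹) * a⁻¹ := by group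
      _ = a * (a⁻¹ * s * a⁻¹⁻¹) * a⁻¹ := by rw [inv_mul_eq_one.mp e]
      _ = s := by group
  refine c.centralizer_ne_top hs (fun h1 => by rw [h1, orderOf_one] at hs2; omega) ?_
  rw [eq_top_iff]
  intro g _
  have h1 := Cfsg.Lib.ZStarApps.zstarProp hiso g
  rw [c.core, mem_bot, mul_inv_eq_one, mul_inv_eq_iff_eq_mul] at h1
  exact mem_centralizer_singleton_iff.mpr h1.symm

end Ctx

/-- Two commuting four-groups of elements of the two kinds. -/
structure Fours (S₁ S₂ A B : Subgroup G) : Prop where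
  eA : Cfsg.IsElementaryAbelian 2 A
  eB : Cfsg.IsElementaryAbelian 2 B
  cA : Nat.card A = 4
  cB : Nat.card B = 4
  inA : ∀ x ∈ A, IsIn S₁ x
  inB : ∀ x ∈ B, IsIn S₂ x
  comm : ∀ x ∈ A, ∀ y ∈ B, x * y = y * x

theorem Fours.symm {S₁ S₂ A B : Subgroup G} (q : Fours S₁ S₂ A B) : Fours S₂ S₁ B A :=
  ⟨q.eB, q.eA, q.cB, q.cA, q.inB, q.inA, fun x hx y hy => (q.comm y hy x hx).symm⟩

/-- The common value of the functor. -/
def sig (A B : Subgroup G) : Subgroup G := ⨆ f : {f : G // f ∈ A ∧ f ≠ 1}, part B f.1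

/-- The value of the functor at a first-kind element, described by one second-kind element. -/
def localPart (f g : G) : Subgroup G :=
  ⁅centralizerPPrimeCore 2 f, zpowers g⁆ ⊔
    (centralizerPPrimeCore 2 f ⊓ centralizerPPrimeCore 2 g)

theorem exists_ne_one_of_card_four {B : Subgroup G} (h : Nat.card B = 4) :
    ∃ g ∈ B, g ≠ 1 := by
  by_contra hne
  push Not at hne
  have : B = ⊥ := (eq_bot_iff_forall _).mpr hne
  rw [this, card_bot] at h
  omega

theorem not_isCyclic_of_four {B : Subgroup G} (he : Cfsg.IsElementaryAbelian 2 B)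
    (h : Nat.card B = 4) : ¬ IsCyclic B := by
  intro hc
  obtain ⟨b, hb⟩ := hc.exists_generator
  have h1 : orderOf b = 4 := by rw [orderOf_eq_card_of_forall_mem_zpowers hb, h]
  have h2 : orderOf b ∣ 2 := orderOf_dvd_of_pow_eq_one (Subtype.ext (by simpa using he.2 b b.2))
  rw [h1] at h2
  omega

/-- the centralizer part of `O(C(b))` lies in `O(C(B))` -/
theorem core_inf_le_coreC {B : Subgroup G} {b : G} (hb : b ∈ B) :
    centralizerPPrimeCore 2 b ⊓ centralizer (B : Set G) ≤ coreC B := by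
  haveI : ((centralizerPPrimeCore 2 b).subgroupOf (centralizer (B : Set G))).Normal :=
    normal_subgroupOf_of_le_normalizer_aux hb
  rw [← subgroupOf_map_subtype]
  refine Subgroup.map_mono (le_pPrimeCore ?_)
  exact (centralizerPPrimeCore_card_coprime (p := 2) b).coprime_dvd_left
    (Subgroup.card_comap_dvd_of_injective _ _ (centralizer (B : Set G)).subtype_injective)
where
  normal_subgroupOf_of_le_normalizer_aux {B : Subgroup G} {b : G} (hb : b ∈ B) :
      ((centralizerPPrimeCore 2 b).subgroupOf (centralizer (B : Set G))).Normal := by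
    refine ⟨fun x hx y => ?_⟩
    have hy : (y : G) ∈ centralizer ({b} : Set G) :=
      centralizer_le (Set.singleton_subset_iff.mpr hb) y.2
    exact (mem_normalizer_iff.mp
      (centralizer_le_normalizer_centralizerPPrimeCore b hy) _).mp hx

namespace Fours

variable {S : Sylow 2 G} {S₁ S₂ A B : Subgroup G}

theorem disj (q : Fours S₁ S₂ A B) (c : Ctx S S₁ S₂) : A ⊓ B = ⊥ :=
  (eq_bot_iff_forall _).mpr fun x hx => c.eq_one_of_isIn (q.inA x hx.1) (q.inB x hx.2)

theorem centralizer_ne_top (q : Fours S₁ S₂ A B) (c : Ctx S S₁ S₂) {a : G} (ha : a ∈ A ⊔ B)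
    (ha1 : a ≠ 1) : centralizer ({a} : Set G) ≠ ⊤ := by
  have hn : B ≤ normalizer (A : Set G) := fun y hy => centralizer_le_normalizer _
    (mem_centralizer_iff.mpr fun x hx => q.comm x hx y hy)
  have ha' : a ∈ ((A ⊔ B : Subgroup G) : Set G) := ha
  rw [coe_mul_of_right_le_normalizer_left _ _ hn] at ha'
  obtain ⟨s, hs, t, ht, rfl⟩ := ha'
  simp only [] at ha1 ⊢
  by_cases hs1 : s = 1
  · rw [hs1, one_mul] at ha1 ⊢
    exact c.symm.centralizer_ne_top (q.inB t ht) ha1
  by_cases ht1 : t = 1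
  · rw [ht1, mul_one]
    exact c.centralizer_ne_top (q.inA s hs) hs1
  exact c.mixed_centralizer_ne_top (q.inA s hs) (q.inB t ht) (orderOf_eq_prime (q.eA.2 s hs) hs1)
    (q.eB.2 t ht) (q.comm s hs t ht)

/-- a component of a separated local subgroup is centralized by one of the four-groups -/
theorem component_separated {H : Subgroup G} (hsep : Separated S₁ S₂ H) (q : Fours S₁ S₂ A B)
    (hAH : A ≤ H) (hBH : B ≤ H) {E : Subgroup ↥H} (hE : IsPComponent 2 E) :
    ⁅E.map H.subtype, A⁆ ≤ coreOf H ∨ ⁅E.map H.subtype, B⁆ ≤ coreOf H := by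
  have hK : IsComponent (E.map (coreQ H)) := hE.2.1
  haveI := qclos_normal S₁ H
  haveI := qclos_normal S₂ H
  have key : ∀ {Si : Subgroup G} {T : Subgroup G}, (∀ x ∈ T, IsIn Si x) → T ≤ H →
      ⁅E.map (coreQ H), qclos Si H⁆ = ⊥ →
      ⁅E.map H.subtype, T⁆ ≤ coreOf H := by
    intro Si T hT hTH hbot
    rw [commutator_le]
    rintro _ ⟨e, he, rfl⟩ v hv
    show ⁅(e : G), v⁆ ∈ coreOf H
    have h1 : ⁅coreQ H e, coreQ H ⟨v, hTH hv⟩⁆ ∈ (⊥ : Subgroup (↥H ⧸ pPrimeCore 2 ↥H)) :=
      hbot ▸ commutator_mem_commutator (mem_map_of_mem _ he)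
        (mem_qclos (hTH hv) (mem_clos (hTH hv) (hT v hv)))
    rw [mem_bot, ← map_commutatorElement] at h1
    have h2 := (coreQ_eq_one_iff (⁅e, (⟨v, hTH hv⟩ : ↥H)⁆).2).mp h1
    simpa [commutatorElement_def] using h2
  rcases comp_le_or_commute_of_normalizes (H := qclos S₁ H) hK
    (le_top.trans (normalizer_eq_top _).ge) with h1 | h1
  swap
  · exact Or.inl (key q.inA hAH h1)
  rcases comp_le_or_commute_of_normalizes (H := qclos S₂ H) hK
    (le_top.trans (normalizer_eq_top _).ge) with h2 | h2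
  swap
  · exact Or.inr (key q.inB hBH h2)
  exfalso
  refine comp_ne_bot hK ?_
  rw [← comp_perfect hK, commutator_eq_bot_iff_le_centralizer]
  intro x hx
  refine mem_centralizer_iff.mpr fun y hy => ?_
  exact mem_centralizer_iff.mp (qclos_commute hsep (h2 hx)) y (h1 hy)

theorem coreSeparated (q : Fours S₁ S₂ A B) (c : Ctx S S₁ S₂) : Cfsg.IsCoreSeparated A B := by
  refine ⟨q.eA, q.eB, q.cA, q.cB, fun h => ?_, q.disj c, q.comm, ?_⟩
  · have := q.disj c
    rw [← h, inf_idem] at this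
    have h4 := q.cA
    rw [this, card_bot] at h4
    omega
  intro a ha ha1
  have hAH : A ⊔ B ≤ centralizer ({a} : Set G) := by
    intro x hx
    have hcom : A ⊔ B ≤ centralizer ((A ⊔ B : Subgroup G) : Set G) := by
      refine sup_le ?_ ?_ <;> intro x hx <;> rw [mem_centralizer_iff] <;> intro y hy
      · have : A ⊔ B ≤ centralizer ({x} : Set G) := sup_le
          (fun z hz => mem_centralizer_singleton_iff.mpr
            (congrArg Subtype.val (q.eA.1.is_comm.comm (⟨z, hz⟩ : A) ⟨x, hx⟩)))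
          (fun z hz => mem_centralizer_singleton_iff.mpr (q.comm x hx z hz).symm)
        exact mem_centralizer_singleton_iff.mp (this hy)
      · have : A ⊔ B ≤ centralizer ({x} : Set G) := sup_le
          (fun z hz => mem_centralizer_singleton_iff.mpr (q.comm z hz x hx))
          (fun z hz => mem_centralizer_singleton_iff.mpr
            (congrArg Subtype.val (q.eB.1.is_comm.comm (⟨z, hz⟩ : B) ⟨x, hx⟩)))
        exact mem_centralizer_singleton_iff.mp (this hy)
    exact mem_centralizer_singleton_iff.mpr (mem_centralizer_iff.mp (hcom hx) a ha).symm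
  exact fun E hE => component_separated (c.sep _ (q.centralizer_ne_top c ha ha1)) q
    (le_sup_left.trans hAH) (le_sup_right.trans hAH) hE

theorem signalizer (q : Fours S₁ S₂ A B) (c : Ctx S S₁ S₂) :
    Cfsg.IsSignalizerFunctor 2 (A ⊔ B) (fun a => part A a ⊓ part B a) :=
  Cfsg.Lib.CoreSep.functor A B (q.coreSeparated c) fun Y hY => Cfsg.Agent.S0205.result (G := ↥Y) hY

theorem le_centralizer_singleton (q : Fours S₁ S₂ A B) {f : G} (hf : f ∈ A) :
    A ⊔ B ≤ centralizer ({f} : Set G) := sup_le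
  (fun z hz => mem_centralizer_singleton_iff.mpr
    (congrArg Subtype.val (q.eA.1.is_comm.comm (⟨z, hz⟩ : A) ⟨f, hf⟩)))
  (fun z hz => mem_centralizer_singleton_iff.mpr (q.comm f hf z hz).symm)

theorem part_self (q : Fours S₁ S₂ A B) {f : G} (hf : f ∈ A) :
    part A f = centralizerPPrimeCore 2 f := by
  have hn : A ≤ normalizer (centralizerPPrimeCore 2 f : Set G) :=
    (le_sup_left.trans (q.le_centralizer_singleton hf)).trans
      (centralizer_le_normalizer_centralizerPPrimeCore f)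
  refine le_antisymm (sup_le (Cfsg.Lib.Coprime.commutator_le_of_le_normalizer hn) inf_le_left) ?_
  have hcop : (Nat.card A).Coprime (Nat.card (centralizerPPrimeCore 2 f)) := by
    rw [q.cA, show (4 : ℕ) = 2 ^ 2 from rfl]
    exact Nat.Coprime.pow_left 2 (centralizerPPrimeCore_card_coprime (p := 2) f).symm
  haveI := q.eA.1
  conv_lhs => rw [← Cfsg.Lib.Coprime.commutator_sup_centralizer hn hcop
    (Or.inl (Group.isSolvable_of_comm fun a b => mul_comm' a b))]
  exact sup_le_sup le_rfl (le_inf inf_le_left (core_inf_le_coreC hf))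

theorem card_sup (q : Fours S₁ S₂ A B) (c : Ctx S S₁ S₂) : 2 ^ 3 ≤ Nat.card (A ⊔ B : Subgroup G) := by
  let i : A × B → (A ⊔ B : Subgroup G) := fun x =>
    ⟨(x.1 : G) * x.2, mul_mem (mem_sup_left x.1.2) (mem_sup_right x.2.2)⟩
  have hi : Function.Injective i := by
    intro x y hxy
    have h : (x.1 : G) * x.2 = y.1 * y.2 := congrArg Subtype.val hxy
    have h1 : (y.1 : G)⁻¹ * x.1 ∈ A ⊓ B := by
      refine ⟨Subgroup.mul_mem _ (Subgroup.inv_mem _ y.1.2) x.1.2, ?_⟩
      rw [show (y.1 : G)⁻¹ * x.1 = (y.2 : G) * (x.2 : G)⁻¹ by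
        rw [eq_mul_inv_iff_mul_eq, mul_assoc, h, inv_mul_cancel_left]]
      exact Subgroup.mul_mem _ y.2.2 (Subgroup.inv_mem _ x.2.2)
    rw [q.disj c, mem_bot, inv_mul_eq_one] at h1
    refine Prod.ext (Subtype.ext h1.symm) (Subtype.ext ?_)
    rw [← h1] at h
    exact mul_left_cancel h
  have := Nat.card_le_card_of_injective i hi
  rw [Nat.card_prod, q.cA, q.cB] at this
  omega

/-- the functor is complete, and its value is `sig A B` from either side -/
theorem complete (q : Fours S₁ S₂ A B) (c : Ctx S S₁ S₂) :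
    Odd (Nat.card (sig A B)) ∧ sig A B = sig B A ∧
      ∀ f ∈ A, f ≠ 1 → part B f ≤ sig A B := by
  obtain ⟨hC, hp, hinv, hbal⟩ := q.signalizer c
  set θ := fun a : G => part A a ⊓ part B a with hθ
  have hsol : ∀ a ∈ A ⊔ B, a ≠ 1 → Group.IsSolvable (θ a) := fun a ha ha1 =>
    Cfsg.Agent.PF.isSolvable_of_odd _ (Nat.not_even_iff_odd.mp fun h =>
      hp a ha ha1 (even_iff_two_dvd.mp h))
  haveI : IsMulCommutative A := q.eA.1
  haveI : IsMulCommutative B := q.eB.1
  have hcomm : ∀ a ∈ A ⊔ B, ∀ b ∈ A ⊔ B, a * b = b * a := by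
    intro a ha b hb
    have h1 : A ⊔ B ≤ centralizer ({a} : Set G) := by
      refine sup_le (fun x hx => ?_) (fun x hx => ?_)
      · exact mem_centralizer_singleton_iff.mpr
          (mem_centralizer_singleton_iff.mp (q.le_centralizer_singleton hx ha)).symm
      · exact mem_centralizer_singleton_iff.mpr (mem_centralizer_singleton_iff.mp
          (q.symm.le_centralizer_singleton hx (sup_comm A B ▸ ha))).symm
    exact (mem_centralizer_singleton_iff.mp (h1 hb)).symm
  have hexp : ∀ a ∈ A ⊔ B, a ^ 2 = 1 := by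
    intro a ha
    have hn : B ≤ normalizer (A : Set G) := fun y hy => centralizer_le_normalizer _
      (mem_centralizer_iff.mpr fun x hx => q.comm x hx y hy)
    have ha' : a ∈ ((A ⊔ B : Subgroup G) : Set G) := ha
    rw [coe_mul_of_right_le_normalizer_left _ _ hn] at ha'
    obtain ⟨s, hs, t, ht, rfl⟩ := ha'
    show (s * t) ^ 2 = 1
    rw [Commute.mul_pow (q.comm s hs t ht) 2, q.eA.2 s hs, q.eB.2 t ht, one_mul]
  obtain ⟨hW2, hWC⟩ := Cfsg.Agent.S0217.result (p := 2) (A ⊔ B) hcomm hexp (q.card_sup c) θ hC hp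
    hinv hsol hbal
  set W0 := ⨆ b : {a : G // a ∈ A ⊔ B ∧ a ≠ 1}, θ b.1 with hW0
  have hodd : Odd (Nat.card W0) := Nat.not_even_iff_odd.mp fun h => hW2 (even_iff_two_dvd.mp h)
  have hnorm : A ⊔ B ≤ normalizer (W0 : Set G) := by
    intro b hb
    refine Cfsg.Lib.ZStarApps.mem_normalizer_of_maps fun x hx => ?_
    have hle : W0 ≤ W0.comap (MulAut.conj b).toMonoidHom := iSup_le fun a y hy =>
      le_iSup (fun a : {a : G // a ∈ A ⊔ B ∧ a ≠ 1} => θ a.1) a (hinv a.1 a.2.1 a.2.2 b hb y hy)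
    exact hle hx
  have gen : ∀ T : Subgroup G, T ≤ A ⊔ B → Nat.card T = 4 → ¬ IsCyclic T → IsMulCommutative T →
      W0 = ⨆ f : {f : G // f ∈ T ∧ f ≠ 1}, θ f.1 := by
    intro T hT hT4 hTc hTcomm
    haveI := hTcomm
    refine le_antisymm ?_ (iSup_le fun f => le_iSup (fun a : {a : G // a ∈ A ⊔ B ∧ a ≠ 1} => θ a.1)
      ⟨f.1, hT f.2.1, f.2.2⟩)
    have hcop : (Nat.card T).Coprime (Nat.card W0) := by
      rw [hT4, show (4 : ℕ) = 2 ^ 2 from rfl]
      exact Nat.Coprime.pow_left 2 (Nat.coprime_two_left.mpr hodd)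
    conv_lhs => rw [← Cfsg.Lib.Coprime.centralizerJoin_eq hTc (hT.trans hnorm) hcop]
    refine iSup₂_le fun f hf => ?_
    rw [hWC f (hT hf.1) hf.2]
    exact le_iSup (fun f : {f : G // f ∈ T ∧ f ≠ 1} => θ f.1) ⟨f, hf⟩
  have hA : W0 = sig A B := by
    rw [gen A le_sup_left q.cA (not_isCyclic_of_four q.eA q.cA) q.eA.1, sig]
    refine iSup_congr fun f => ?_
    have hle : part B f.1 ≤ part A f.1 := by
      rw [q.part_self f.2.1]
      exact sup_le (Cfsg.Lib.Coprime.commutator_le_of_le_normalizer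
        ((le_sup_right.trans (q.le_centralizer_singleton f.2.1)).trans
          (centralizer_le_normalizer_centralizerPPrimeCore f.1))) inf_le_left
    exact inf_eq_right.mpr hle
  have hB : W0 = sig B A := by
    rw [gen B le_sup_right q.cB (not_isCyclic_of_four q.eB q.cB) q.eB.1, sig]
    refine iSup_congr fun f => ?_
    have hle : part A f.1 ≤ part B f.1 := by
      rw [q.symm.part_self f.2.1]
      exact sup_le (Cfsg.Lib.Coprime.commutator_le_of_le_normalizer
        ((le_sup_right.trans (q.symm.le_centralizer_singleton f.2.1)).trans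
          (centralizer_le_normalizer_centralizerPPrimeCore f.1))) inf_le_left
    exact inf_eq_left.mpr hle
  refine ⟨hA ▸ hodd, hA.symm.trans hB, fun f hf hf1 => ?_⟩
  exact le_iSup (fun f : {f : G // f ∈ A ∧ f ≠ 1} => part B f.1) ⟨f, hf, hf1⟩

/-- the value at `f` depends on one element of `B` only -/
theorem part_eq_localPart (q : Fours S₁ S₂ A B) (c : Ctx S S₁ S₂) {f g : G} (hf : f ∈ A)
    (hg : g ∈ B) (hg1 : g ≠ 1) : part B f = localPart f g := by
  set J := centralizerPPrimeCore 2 f with hJ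
  set Og := centralizerPPrimeCore 2 g with hOg
  haveI := q.eB.1
  have hBf : B ≤ centralizer ({f} : Set G) := le_sup_right.trans (q.le_centralizer_singleton hf)
  have hBg : B ≤ centralizer ({g} : Set G) :=
    le_sup_left.trans (q.symm.le_centralizer_singleton hg)
  have hBJ : B ≤ normalizer (J : Set G) :=
    hBf.trans (centralizer_le_normalizer_centralizerPPrimeCore f)
  have hBO : B ≤ normalizer (Og : Set G) :=
    hBg.trans (centralizer_le_normalizer_centralizerPPrimeCore g)
  have hsolB : Group.IsSolvable B := Group.isSolvable_of_comm fun a b => mul_comm' a b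
  have hcopJ : (Nat.card B).Coprime (Nat.card J) := by
    rw [q.cB, show (4 : ℕ) = 2 ^ 2 from rfl]
    exact Nat.Coprime.pow_left 2 (centralizerPPrimeCore_card_coprime (p := 2) f).symm
  set H := centralizer ({g} : Set G) with hH
  have hsep := c.sep H (c.symm.centralizer_ne_top (q.inB g hg) hg1)
  have hfH : f ∈ H := mem_centralizer_singleton_iff.mpr (q.comm f hf g hg)
  apply le_antisymm
  · -- one inclusion
    refine sup_le ?_ ?_
    · have hgJ : zpowers g ≤ normalizer (J : Set G) := (zpowers_le.mpr hg).trans hBJ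
      have hdec := Cfsg.Lib.Coprime.commutator_sup_centralizer hgJ
        ((hcopJ.coprime_dvd_left (Subgroup.card_dvd_of_le (zpowers_le.mpr hg))))
        (Or.inl inferInstance)
      have hBP : B ≤ normalizer (localPart f g : Set G) := by
        refine le_trans (le_inf ?_ ?_) (normalizer_inf_normalizer_le_normalizer_sup _ _)
        · refine Cfsg.Lib.CommFixedGen.le_normalizer_commutator (X := B) hBJ ?_
          refine le_trans ?_ (centralizer_le_normalizer _)
          rw [Cfsg.Lib.Coprime.centralizer_zpowers]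
          exact hBg
        · exact Cfsg.Lib.Coprime.le_normalizer_inf hBJ hBO
      rw [commutator_le]
      intro z hz b hb
      have hz' : z ∈ ((J : Subgroup G) : Set G) := hz
      rw [← hdec, coe_mul_of_right_le_normalizer_left _ _
        (inf_le_left.trans (Cfsg.Lib.Coprime.le_normalizer_commutator_left (zpowers g) J))] at hz'
      obtain ⟨x, hx, y, hy, rfl⟩ := hz'
      simp only []
      rw [Cfsg.Lib.CommFixedGen.comm_mul_left]
      have hxP : x ∈ localPart f g := mem_sup_left hx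
      have hyb : ⁅y, b⁆ ∈ localPart f g := by
        refine mem_sup_right ⟨?_, ?_⟩
        · rw [commutatorElement_def, show y * b * y⁻¹ * b⁻¹ = y * (b * y⁻¹ * b⁻¹) by group]
          exact Subgroup.mul_mem _ hy.1
            ((mem_normalizer_iff.mp (hBJ hb) _).mp (Subgroup.inv_mem _ hy.1))
        · refine commutator_mem_coreOf hsep hfH (q.inA f hf) (c.pgroup (q.inA f hf)) (hBg hb)
            (q.inB b hb) hy.1 ?_
          have := hy.2
          rw [SetLike.mem_coe, Cfsg.Lib.Coprime.centralizer_zpowers] at this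
          exact this
      refine Subgroup.mul_mem _ (Subgroup.mul_mem _ (Subgroup.mul_mem _ hxP hyb)
        (Subgroup.inv_mem _ hxP)) ?_
      rw [commutatorElement_def, show x * b * x⁻¹ * b⁻¹ = x * (b * x⁻¹ * b⁻¹) by group]
      exact Subgroup.mul_mem _ hxP ((mem_normalizer_iff.mp (hBP hb) _).mp (Subgroup.inv_mem _ hxP))
    · rintro x ⟨hxJ, hxB⟩
      have hxH : x ∈ H := centralizer_le (Set.singleton_subset_iff.mpr hg) (coreC_le_centralizer B hxB)
      refine mem_sup_right ⟨hxJ, (coreQ_eq_one_iff hxH).mp ?_⟩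
      haveI := qclos_normal S₁ H
      haveI := qclos_normal S₂ H
      set N₁ := qclos S₁ H
      set N₂ := qclos S₂ H
      set r := coreQ H
      have hfN : r ⟨f, hfH⟩ ∈ N₁ := mem_qclos hfH (mem_clos hfH (q.inA f hf))
      have hcore := core_image hfH (c.pgroup (q.inA f hf)) hxJ hxH
      have h2 : r ⟨x, hxH⟩ ∈ centralizer (N₂ : Set (↥H ⧸ pPrimeCore 2 ↥H)) :=
        mem_centralizer_iff.mpr fun y hy => ((commutatorElement_eq_one_iff_mul_comm.mp
          (core_commutator_eq_one pPrimeCore_quotient_eq_bot (qclos_commute hsep) hfN hy hcore))).symm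
      set D := ((coreC B).subgroupOf H).map r with hD
      have hDcop : (Nat.card D).Coprime 2 := (coreC_coprime B).coprime_dvd_left
        ((card_map_dvd _ _).trans (Subgroup.card_comap_dvd_of_injective _ _ H.subtype_injective))
      have hN1D : N₁ ≤ normalizer (D : Set (↥H ⧸ pPrimeCore 2 ↥H)) := by
        rintro _ ⟨k, hk, rfl⟩
        have hBH : B ≤ H := hBg
        obtain ⟨n, hn, hkn⟩ := Cfsg.Lib.Coprime.exists_fixed_of_commutator_mem (A := B)
          (N := coreOf H) (k := (k : G)) (hBH.trans (by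
            conv_lhs => rw [← range_subtype H, MonoidHom.range_eq_map]
            exact le_trans (Subgroup.map_mono (normalizer_eq_top _).ge) (le_normalizer_map _)))
          (by
            rw [q.cB, show (4 : ℕ) = 2 ^ 2 from rfl]
            refine Nat.Coprime.pow_left 2 (Nat.Coprime.symm ?_)
            exact centralizerPPrimeCore_card_coprime (p := 2) g)
          (Or.inl hsolB)
          ((centralizer_le_normalizer_centralizerPPrimeCore g) k.2)
          (fun b hb => hsep.symm (commutator_mem_commutator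
            (mem_clos (hBH hb) (q.inB b hb)) hk))
        obtain ⟨n', hn', rfl⟩ := hn
        have hkr : r k = r (k * n') := by
          rw [map_mul, show r n' = 1 from (QuotientGroup.eq_one_iff _).mpr hn', mul_one]
        rw [hkr]
        refine le_normalizer_map r (mem_map_of_mem _ ?_)
        rw [mem_normalizer_iff]
        intro y
        exact mem_normalizer_iff.mp (centralizer_le_normalizer_coreC B hkn) (y : G)
      have hxD : r ⟨x, hxH⟩ ∈ D := mem_map_of_mem _ hxB
      have h1 : r ⟨x, hxH⟩ ∈ centralizer (N₁ : Set (↥H ⧸ pPrimeCore 2 ↥H)) := by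
        refine mem_centralizer_iff.mpr fun y hy => (commutatorElement_eq_one_iff_mul_comm.mp
          (eq_one_of_odd_normalized pPrimeCore_quotient_eq_bot (N := N₁) (D := D ⊓ N₁)
            (hDcop.coprime_dvd_left (Subgroup.card_dvd_of_le inf_le_left)) inf_le_right
            (Cfsg.Lib.Coprime.le_normalizer_inf hN1D le_normalizer) ⟨?_, ?_⟩)).symm
        · rw [commutatorElement_def, mul_assoc, mul_assoc, ← mul_assoc y]
          exact Subgroup.mul_mem _ hxD
            ((mem_normalizer_iff.mp (hN1D hy) _).mp (Subgroup.inv_mem _ hxD))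
        · rw [commutatorElement_def]
          exact Subgroup.mul_mem _ ((qclos_normal S₁ H).conj_mem y hy _) (Subgroup.inv_mem _ hy)
      set Z := centralizer (N₁ : Set (↥H ⧸ pPrimeCore 2 ↥H)) ⊓
        centralizer (N₂ : Set (↥H ⧸ pPrimeCore 2 ↥H)) with hZ
      haveI : (centralizer (N₁ : Set (↥H ⧸ pPrimeCore 2 ↥H))).Normal := normal_centralizer
      haveI : (centralizer (N₂ : Set (↥H ⧸ pPrimeCore 2 ↥H))).Normal := normal_centralizer
      haveI : Z.Normal := by rw [hZ]; infer_instance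
      refine eq_one_of_odd_normalized pPrimeCore_quotient_eq_bot (N := Z)
        (D := centralizerPPrimeCore 2 (r ⟨f, hfH⟩) ⊓ Z)
        ((centralizerPPrimeCore_card_coprime (p := 2) _).coprime_dvd_left
          (Subgroup.card_dvd_of_le inf_le_left)) inf_le_right ?_ ⟨hcore, h1, h2⟩
      refine Cfsg.Lib.Coprime.le_normalizer_inf ?_ le_normalizer
      refine le_trans ?_ (centralizer_le_normalizer_centralizerPPrimeCore _)
      intro y hy
      exact mem_centralizer_singleton_iff.mpr (mem_centralizer_iff.mp hy.1 _ hfN).symm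
  · refine sup_le ((Subgroup.commutator_mono le_rfl (zpowers_le.mpr hg)).trans le_sup_left) ?_
    have hBD : B ≤ normalizer ((J ⊓ Og : Subgroup G) : Set G) :=
      Cfsg.Lib.Coprime.le_normalizer_inf hBJ hBO
    conv_lhs => rw [← Cfsg.Lib.Coprime.commutator_sup_centralizer hBD
      (Cfsg.Lib.Coprime.coprime_of_le inf_le_left hcopJ) (Or.inl hsolB)]
    refine sup_le_sup (Subgroup.commutator_mono inf_le_left le_rfl) (le_inf ?_ ?_)
    · exact inf_le_left.trans inf_le_left
    · exact (inf_le_inf_right _ inf_le_right).trans (core_inf_le_coreC hg)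

end Fours

end Cfsg.Lib.ProdFusion
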